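import Cfsg.Agent.EqLemmas
import Mathlib.Data.Nat.Choose.Lucas
import Mathlib.Data.Nat.Factorial.BigOperators
import Mathlib.Data.Nat.Multiplicity
import Mathlib.Tactic

/-!
# Binomial coefficients without small prime factors

* `eq_four_of_half_choose` : `3 ≤ a`, no prime `≤ a` divides `C(2a-1, a-1)` ⇒ `a = 4`;
* `choose_no_small` : `2 ≤ j ≤ i`, no prime `≤ i` divides `C(i+j, j)` ⇒ `(i, j) = (4, 3)`.
-/

set_option autoImplicit false

namespace Cfsg.Agent.PermHall

open Finset

theorem dvd_choose_of_mod_lt {p n k : ℕ} [Fact p.Prime] (h : n % p < k % p) : p ∣ n.choose k := by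
  have := Choose.choose_modEq_choose_mod_mul_choose_div_nat (p := p) (n := n) (k := k)
  rw [Nat.choose_eq_zero_of_lt h, zero_mul] at this
  exact Nat.modEq_zero_iff_dvd.1 this

theorem choose_two_mul_even : ∀ a : ℕ, 1 ≤ a → 2 ∣ (2 * a).choose a := by
  intro a ha
  obtain ⟨b, rfl⟩ : ∃ b, a = b + 1 := ⟨a - 1, by omega⟩
  refine ⟨(2 * b + 1).choose b, ?_⟩
  have h := Nat.choose_succ_succ' (2 * b + 1) b
  have hs : (2 * b + 1).choose (b + 1) = (2 * b + 1).choose b := by
    rw [← Nat.choose_symm (by omega : b ≤ 2 * b + 1)]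
    congr 1
    omega
  rw [show 2 * (b + 1) = 2 * b + 1 + 1 by omega, h, hs]
  omega

theorem two_pow_of_odd_choose : ∀ a : ℕ, 1 ≤ a → ¬ 2 ∣ (2 * a - 1).choose (a - 1) → ∃ k, a = 2 ^ k := by
  intro a
  induction a using Nat.strong_induction_on with
  | _ a ih =>
    intro ha h
    haveI : Fact (Nat.Prime 2) := ⟨Nat.prime_two⟩
    have hL := Choose.choose_modEq_choose_mod_mul_choose_div_nat (p := 2) (n := 2 * a - 1) (k := a - 1)
    rw [show (2 * a - 1) % 2 = 1 by omega, show (2 * a - 1) / 2 = a - 1 by omega] at hL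
    rcases Nat.even_or_odd a with ⟨b, hb⟩ | ⟨b, hb⟩
    · rw [show (a - 1) % 2 = 1 by omega, show (a - 1) / 2 = b - 1 by omega, Nat.choose_self, one_mul,
        show a - 1 = 2 * b - 1 by omega] at hL
      obtain ⟨k, hk⟩ := ih b (by omega) (by omega) (fun hd => h (by
        rw [show a - 1 = 2 * b - 1 by omega]
        exact Nat.modEq_zero_iff_dvd.1 (hL.trans (Nat.modEq_zero_iff_dvd.2 hd))))
      exact ⟨k + 1, by rw [pow_succ]; omega⟩
    · rcases Nat.eq_zero_or_pos b with rfl | hb'
      · exact ⟨0, by omega⟩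
      · exfalso
        rw [show (a - 1) % 2 = 0 by omega, show (a - 1) / 2 = b by omega, Nat.choose_zero_right, one_mul,
          show a - 1 = 2 * b by omega] at hL
        refine h ?_
        rw [show a - 1 = 2 * b by omega]
        exact Nat.modEq_zero_iff_dvd.1 (hL.trans (Nat.modEq_zero_iff_dvd.2 (choose_two_mul_even b hb')))

theorem two_pow_add_five_ne (x t : ℕ) (hx : 6 ≤ x) : 2 ^ x ≠ 3 ^ t + 5 := by
  intro h
  have h64 : 2 ^ x % 64 = 0 := Nat.mod_eq_zero_of_dvd (pow_dvd_pow 2 hx)
  have e3 : ∀ n, n % 64 ≠ 0 → 3 ^ 16 % n = 1 → 3 ^ t % n = 3 ^ (t % 16) % n := by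
    intro n _ hn
    conv_lhs => rw [← Nat.div_add_mod t 16, pow_add, pow_mul, Nat.mul_mod, Nat.pow_mod, hn, one_pow]
    rw [← Nat.mul_mod, one_mul]
  have h11 : t % 16 = 11 := by
    have h1 : (3 ^ t + 5) % 64 = 0 := h ▸ h64
    rw [Nat.add_mod] at h1
    conv at h1 => lhs; rw [← Nat.div_add_mod t 16, pow_add, pow_mul, Nat.mul_mod, Nat.pow_mod]
    have hlt : t % 16 < 16 := Nat.mod_lt _ (by norm_num)
    generalize t % 16 = r at h1 hlt ⊢
    interval_cases r <;> simp_all
  have h17 : (3 ^ t + 5) % 17 = 12 := by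
    rw [Nat.add_mod, e3 17 (by norm_num) (by norm_num), h11]
    norm_num
  rw [← h] at h17
  have hlt : x % 8 < 8 := Nat.mod_lt _ (by norm_num)
  rw [← Nat.div_add_mod x 8, pow_add, pow_mul, Nat.mul_mod, Nat.pow_mod] at h17
  generalize x % 8 = r at h17 hlt
  interval_cases r <;> simp_all

/-- `C(2a-1, a-1)` has a prime factor `≤ a` unless `a = 4` (for `a ≥ 3`). -/
theorem eq_four_of_half_choose {a : ℕ} (ha : 3 ≤ a)
    (h : ∀ p : ℕ, p.Prime → p ≤ a → ¬ p ∣ (2 * a - 1).choose (a - 1)) : a = 4 := by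
  obtain ⟨k, rfl⟩ := two_pow_of_odd_choose a (by omega) (h 2 Nat.prime_two (by omega))
  haveI : Fact (Nat.Prime 3) := ⟨Nat.prime_three⟩
  rcases Nat.even_or_odd k with ⟨l, rfl⟩ | ⟨l, rfl⟩
  swap
  · exfalso
    refine h 3 Nat.prime_three ha (dvd_choose_of_mod_lt ?_)
    have : 2 ^ (2 * l + 1) % 3 = 2 := by
      rw [pow_succ, pow_mul, Nat.mul_mod, Nat.pow_mod]; norm_num
    generalize 2 ^ (2 * l + 1) = a at this ha ⊢
    omega
  by_cases hl : l ≤ 1
  · interval_cases l <;> simp_all
  exfalso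
  have h3 : 2 ^ (l + l) % 3 = 1 := by
    rw [show l + l = 2 * l by omega, pow_mul, Nat.pow_mod]; norm_num
  have ha16 : 16 ≤ 2 ^ (l + l) := by
    calc (16 : ℕ) = 2 ^ 4 := by norm_num
      _ ≤ _ := Nat.pow_le_pow_right (by norm_num) (by omega)
  by_cases hl2 : l = 2
  · subst hl2
    exact h 3 Nat.prime_three (by norm_num) (by decide +kernel)
  set a := 2 ^ (l + l) with hadef
  have hdiv : ∀ p, p.Prime → p ∣ 2 * a - 5 → p = 3 := by
    intro p hp hd
    by_contra hp3
    haveI := Fact.mk hp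
    have hp2 : p ≠ 2 := by rintro rfl; omega
    have hp5 : p ≠ 5 := by
      rintro rfl
      have h5 : 5 ∣ 2 * a := by
        have : 2 * a = 2 * a - 5 + 5 := by omega
        rw [this]; exact Nat.dvd_add hd (dvd_refl 5)
      rw [hadef, ← pow_succ'] at h5
      exact absurd (Nat.Prime.dvd_of_dvd_pow (by norm_num) h5) (by norm_num)
    have hp7 : 7 ≤ p := by
      by_contra hlt
      have := hp.two_le
      interval_cases p <;> simp_all (config := {decide := true})
    have h3d : 3 ∣ 2 * a - 5 := by omega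
    have h3p : 3 * p ∣ 2 * a - 5 :=
      Nat.Coprime.mul_dvd_of_dvd_of_dvd ((Nat.coprime_primes Nat.prime_three hp).2 (Ne.symm hp3)) h3d hd
    have hle := Nat.le_of_dvd (by omega) h3p
    refine h p hp (by omega) (dvd_choose_of_mod_lt ?_)
    obtain ⟨c, hc⟩ := hd
    have h4 : (2 * a - 1) % p = 4 := by
      rw [show 2 * a - 1 = 4 + p * c by omega, Nat.add_mul_mod_self_left, Nat.mod_eq_of_lt (by omega)]
    rw [h4]
    have hr := Nat.div_add_mod (a - 1) p
    generalize hr' : (a - 1) % p = r at hr ⊢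
    generalize (a - 1) / p = t at hr
    by_contra hle4
    have e : (p : ℤ) * c - 2 * ((p : ℤ) * t) = 2 * (r : ℤ) - 3 := by
      have h1 : ((2 * a : ℕ) : ℤ) = p * c + 5 := by rw [show 2 * a = p * c + 5 by omega]; push_cast; ring
      have h2 : (a : ℤ) = p * t + r + 1 := by
        rw [show a = p * t + r + 1 by omega]; push_cast; ring
      push_cast at h1
      linarith
    have hd' : (p : ℤ) ∣ 2 * (r : ℤ) - 3 := ⟨c - 2 * t, by rw [← e]; ring⟩
    have := Int.le_of_dvd (abs_pos.2 (by omega) : (0 : ℤ) < |2 * (r : ℤ) - 3|) ((dvd_abs _ _).2 hd')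
    have habs : |2 * (r : ℤ) - 3| ≤ 5 := abs_le.2 ⟨by omega, by omega⟩
    omega
  obtain ⟨t, ht⟩ : ∃ t, 2 * a - 5 = 3 ^ t :=
    ⟨_, Nat.eq_prime_pow_of_unique_prime_dvd (by omega) (fun {d} hd hdd => hdiv d hd hdd)⟩
  exact two_pow_add_five_ne (l + l + 1) t (by omega) (by rw [pow_succ, ← hadef]; omega)

/-- The product of `c` odd numbers `2 (M - s) + 1`, `s < c`. -/
def oddProd (M c : ℕ) : ℕ := ∏ s ∈ range c, (2 * (M - s) + 1)

theorem descFactorial_split (M h : ℕ) (hM : h ≤ M) :
    (2 * M + 1).descFactorial (2 * h) = oddProd M h * (2 ^ h * M.descFactorial h) ∧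
    (2 * M + 1).descFactorial (2 * h + 1) = oddProd M (h + 1) * (2 ^ h * M.descFactorial h) := by
  induction h with
  | zero => simp [oddProd]
  | succ h ih =>
    obtain ⟨-, ih2⟩ := ih (by omega)
    have h1 : (2 * M + 1).descFactorial (2 * (h + 1)) = oddProd M (h + 1) * (2 ^ (h + 1) * M.descFactorial (h + 1)) := by
      rw [show 2 * (h + 1) = 2 * h + 1 + 1 by ring, Nat.descFactorial_succ, ih2, Nat.descFactorial_succ,
        show 2 * M + 1 - (2 * h + 1) = 2 * (M - h) by omega]
      ring
    refine ⟨h1, ?_⟩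
    rw [Nat.descFactorial_succ, h1, show oddProd M (h + 1 + 1) = oddProd M (h + 1) * (2 * (M - (h + 1)) + 1) from
      prod_range_succ _ _, show 2 * M + 1 - 2 * (h + 1) = 2 * (M - (h + 1)) + 1 by omega]
    ring

theorem dvd_oddProd {m M c : ℕ} (hm : Odd m) (hc : m ∣ c.factorial) (hcM : c ≤ M + 1) : m ∣ oddProd M c := by
  obtain ⟨l, rfl⟩ := hm
  have hd : ((M + (l + 1)).descFactorial c : ZMod (2 * l + 1)) = 0 :=
    (ZMod.natCast_eq_zero_iff _ _).2 (hc.trans (Nat.factorial_dvd_descFactorial _ _))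
  rw [Nat.descFactorial_eq_prod_range, Nat.cast_prod] at hd
  rw [← ZMod.natCast_eq_zero_iff, oddProd, Nat.cast_prod]
  have e : ∀ s ∈ range c, ((2 * (M - s) + 1 : ℕ) : ZMod (2 * l + 1)) = 2 * ((M + (l + 1) - s : ℕ) : ZMod (2 * l + 1)) := by
    intro s hs
    have := mem_range.1 hs
    have h0 : ((2 * l + 1 : ℕ) : ZMod (2 * l + 1)) = 0 := ZMod.natCast_self _
    have : 2 * (M + (l + 1) - s) = 2 * (M - s) + 1 + (2 * l + 1) := by omega
    have h1 := congrArg (fun x : ℕ => (x : ZMod (2 * l + 1))) this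
    simp only [Nat.cast_add, h0, add_zero] at h1
    rw [Nat.cast_mul, Nat.cast_ofNat] at h1
    rw [h1]; push_cast; ring
  rw [prod_congr rfl e, prod_mul_distrib, hd, mul_zero]

theorem factorization_two_factorial_lt {c : ℕ} (hc : c ≠ 0) : c.factorial.factorization 2 < c := by
  have h := Nat.emultiplicity_two_factorial_lt hc
  by_contra hlt
  have hd : 2 ^ c ∣ c.factorial :=
    (Nat.Prime.pow_dvd_iff_le_factorization Nat.prime_two c.factorial_ne_zero).2 (not_lt.1 hlt)
  exact absurd (le_emultiplicity_of_pow_dvd hd) (not_le.2 h)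

/-- A binomial coefficient without prime factors `≤ i` is `C(7, 3)`. -/
theorem choose_no_small {i j : ℕ} (hj : 2 ≤ j) (hij : j ≤ i)
    (h : ∀ p : ℕ, p.Prime → p ≤ i → ¬ p ∣ (i + j).choose j) : i = 4 ∧ j = 3 := by
  set C := (i + j).choose j with hC
  have hCpos : 0 < C := Nat.choose_pos (by omega)
  -- `i + j` is prime
  have hNp : (i + j).Prime := by
    by_contra hnp
    have hcop : Nat.Coprime (i + j) C := by
      refine Nat.coprime_of_dvd fun p hp hpN hpC => ?_
      obtain ⟨t, ht⟩ := hpN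
      have hlt : i < p := by
        by_contra hle
        exact h p hp (not_lt.1 hle) hpC
      have ht1 : t = 1 := by
        rcases Nat.lt_or_ge t 2 with h2 | h2
        · rcases Nat.eq_zero_or_pos t with rfl | h0
          · omega
          · omega
        · have := Nat.mul_le_mul_left p h2
          omega
      subst ht1
      exact hnp (by rw [ht, mul_one]; exact hp)
    have hmul : (i + j) * (i + j - 1).choose (j - 1) = C * j := by
      have := Nat.add_one_mul_choose_eq (i + j - 1) (j - 1)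
      rwa [show i + j - 1 + 1 = i + j by omega, show j - 1 + 1 = j by omega] at this
    have := Nat.le_of_dvd (by omega) (hcop.dvd_of_dvd_mul_left ⟨_, hmul.symm⟩)
    omega
  obtain ⟨M, hM⟩ : Odd (i + j) := hNp.odd_of_ne_two (by omega)
  have hMi : M < i := by omega
  have key : ∀ c hh : ℕ, c ≠ 0 → c ≤ i → c ≤ M + 1 →
      (i + j).descFactorial j = oddProd M c * (2 ^ hh * M.descFactorial hh) →
      ∃ x, 0 < x ∧ ∀ A : ℕ, j.factorial = A * (hh.factorial * c.factorial) →
        A * 2 ^ c.factorial.factorization 2 = x * (2 ^ hh * M.choose hh) := by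
    intro c hh hc0 hci hcM hsplit
    set v := c.factorial.factorization 2 with hv
    set m := c.factorial / 2 ^ v with hm
    have hvm : 2 ^ v * m = c.factorial := Nat.ordProj_mul_ordCompl_eq_self _ _
    have hm2 : Odd m := by
      rw [Nat.odd_iff, ← Nat.not_even_iff, even_iff_two_dvd]
      exact Nat.not_dvd_ordCompl Nat.prime_two c.factorial_ne_zero
    have hmo : m ∣ oddProd M c := dvd_oddProd hm2 ⟨2 ^ v, by rw [mul_comm]; exact hvm.symm⟩ hcM
    have hEv : Nat.Coprime C (2 ^ hh * M.descFactorial hh) := by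
      refine Nat.coprime_of_dvd fun p hp hpC hpE => h p hp ?_ hpC
      rcases (Nat.Prime.dvd_mul hp).1 hpE with h2 | h2
      · have := Nat.le_of_dvd (by norm_num) (hp.dvd_of_dvd_pow h2); omega
      · rw [Nat.descFactorial_eq_prod_range] at h2
        obtain ⟨s, hsr, hs⟩ := (Prime.dvd_finsetProd_iff hp.prime _).1 h2
        rcases Nat.eq_zero_or_pos (M - s) with h0 | h0
        · exfalso
          have hd0 : M.descFactorial hh = 0 := by
            rw [Nat.descFactorial_eq_prod_range]
            exact Finset.prod_eq_zero hsr h0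
          rw [hd0, mul_zero, mul_zero] at hsplit
          exact (Nat.descFactorial_pos.2 (by omega) : 0 < (i + j).descFactorial j).ne' hsplit
        · have := Nat.le_of_dvd h0 hs; omega
    have hCo : C ∣ oddProd M c := by
      refine hEv.dvd_of_dvd_mul_right ?_
      rw [← hsplit, Nat.descFactorial_eq_factorial_mul_choose]
      exact dvd_mul_left _ _
    have hcop : Nat.Coprime m C := by
      refine Nat.coprime_of_dvd fun p hp hpm hpC => h p hp ?_ hpC
      have : p ∣ c.factorial := hvm ▸ hpm.mul_left _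
      exact ((Nat.Prime.dvd_factorial hp).1 this).trans hci
    obtain ⟨x, hx⟩ := hcop.mul_dvd_of_dvd_of_dvd hmo hCo
    have hxpos : 0 < x := by
      rcases Nat.eq_zero_or_pos x with rfl | h0
      · exfalso
        rw [mul_zero] at hx
        rw [hx, zero_mul] at hsplit
        exact (Nat.descFactorial_pos.2 (by omega) : 0 < (i + j).descFactorial j).ne' hsplit
      · exact h0
    refine ⟨x, hxpos, fun A hA => ?_⟩
    rw [Nat.descFactorial_eq_factorial_mul_choose, Nat.descFactorial_eq_factorial_mul_choose, hx, hA] at hsplit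
    have hpos : 0 < C * m * hh.factorial :=
      Nat.mul_pos (Nat.mul_pos hCpos (Nat.pos_of_ne_zero fun h0 => by simp [h0] at hm2)) hh.factorial_pos
    refine Nat.eq_of_mul_eq_mul_left hpos ?_
    rw [← hvm] at hsplit
    linarith [hsplit]
  rcases Nat.even_or_odd j with ⟨hh, hje⟩ | ⟨hh, hjo⟩
  · exfalso
    have h2h : 2 * hh ≤ M := by omega
    obtain ⟨x, hx, hkey⟩ := key hh hh (by omega) (by omega) (by omega) (by
      rw [hM, hje, ← two_mul]; exact (descFactorial_split M hh (by omega)).1)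
    have e := hkey ((2 * hh).choose hh) (by
      have := Nat.choose_mul_factorial_mul_factorial (show hh ≤ 2 * hh by omega)
      rw [show 2 * hh - hh = hh by omega] at this
      rw [hje, ← two_mul, ← this]; ring)
    have h1 : (2 * hh).choose hh ≤ M.choose hh := Nat.choose_le_choose hh h2h
    have h3 : 2 ^ hh.factorial.factorization 2 < 2 ^ hh :=
      Nat.pow_lt_pow_right (by norm_num) (factorization_two_factorial_lt (by omega))
    have hpos : 0 < (2 * hh).choose hh := Nat.choose_pos (by omega)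
    have : (2 * hh).choose hh * 2 ^ hh.factorial.factorization 2 < x * (2 ^ hh * M.choose hh) :=
      calc _ < (2 * hh).choose hh * 2 ^ hh := Nat.mul_lt_mul_of_pos_left h3 hpos
        _ ≤ M.choose hh * 2 ^ hh := Nat.mul_le_mul_right _ h1
        _ = 1 * (2 ^ hh * M.choose hh) := by ring
        _ ≤ _ := Nat.mul_le_mul_right _ hx
    exact this.ne e
  · obtain ⟨x, hx, hkey⟩ := key (hh + 1) hh (by omega) (by omega) (by omega) (by
      rw [hM, hjo]; exact (descFactorial_split M hh (by omega)).2)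
    have e := hkey ((2 * hh + 1).choose hh) (by
      have := Nat.choose_mul_factorial_mul_factorial (show hh ≤ 2 * hh + 1 by omega)
      rw [show 2 * hh + 1 - hh = hh + 1 by omega] at this
      rw [hjo, ← this]; ring)
    have hv : 2 ^ (hh + 1).factorial.factorization 2 ≤ 2 ^ hh :=
      Nat.pow_le_pow_right (by norm_num) (Nat.lt_succ_iff.1 (factorization_two_factorial_lt (by omega)))
    have hMeq : M = 2 * hh + 1 := by
      by_contra hne
      have h2 : (2 * hh + 1).choose hh < M.choose hh := by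
        refine lt_of_lt_of_le ?_ (Nat.choose_le_choose hh (show 2 * hh + 1 + 1 ≤ M by omega))
        obtain ⟨g, rfl⟩ : ∃ g, hh = g + 1 := ⟨hh - 1, by omega⟩
        rw [Nat.choose_succ_succ' (2 * (g + 1) + 1) g]
        have : 0 < (2 * (g + 1) + 1).choose g := Nat.choose_pos (by omega)
        omega
      have : (2 * hh + 1).choose hh * 2 ^ (hh + 1).factorial.factorization 2 < x * (2 ^ hh * M.choose hh) :=
        calc _ ≤ (2 * hh + 1).choose hh * 2 ^ hh := Nat.mul_le_mul_left _ hv
          _ < M.choose hh * 2 ^ hh := Nat.mul_lt_mul_of_pos_right h2 (by positivity)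
          _ = 1 * (2 ^ hh * M.choose hh) := by ring
          _ ≤ _ := Nat.mul_le_mul_right _ hx
      exact this.ne e
    have ha : 2 * hh + 2 = 4 := eq_four_of_half_choose (by omega) fun p hp hpa hd => h p hp (by omega) (by
      rwa [hC, show i + j = 2 * (2 * hh + 2) - 1 by omega, show j = 2 * hh + 2 - 1 by omega])
    omega

end Cfsg.Agent.PermHall
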