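import Cfsg.Agent.Lib.PermHall.Primitive

/-!
# Hall subgroups of alternating groups (mixed case)
-/

set_option autoImplicit false

open scoped Pointwise

universe u

namespace Cfsg.Agent.PermHall

open Equiv Equiv.Perm

variable {π : Set ℕ}

/-- The objects stabilised by the Hall subgroups. -/
def Obj (π : Set ℕ) (α : Type*) [Fintype α] [DecidableEq α] (𝓕 : Finset (Finset α)) : Prop :=
  ((Fintype.card α).Prime ∧ (∀ r : ℕ, r.Prime → r ≤ Fintype.card α → (r ∈ π ↔ r < Fintype.card α)) ∧
      ∃ x : α, 𝓕 = {{x}}) ∨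
    ((∀ r : ℕ, r.Prime → r ≤ Fintype.card α → (r ∈ π ↔ (r = 2 ∨ r = 3))) ∧
      ((Fintype.card α = 7 ∧ ∃ S : Finset α, S.card = 3 ∧ 𝓕 = {S}) ∨
       (Fintype.card α = 8 ∧ ∃ B : Finset α, B.card = 4 ∧ 𝓕 = {B, Bᶜ})))

theorem Obj.num {α : Type*} [Fintype α] [DecidableEq α] {𝓕 : Finset (Finset α)} (h : Obj π α 𝓕) :
    Num π (Fintype.card α) := by
  rcases h with ⟨hp, hc, -⟩ | ⟨hc, ⟨h7, -⟩ | ⟨h8, -⟩⟩
  · exact Or.inl ⟨hp, hc⟩
  · exact Or.inr ⟨Or.inl h7, hc⟩
  · exact Or.inr ⟨Or.inr h8, hc⟩

variable {α : Type u} [Fintype α] [DecidableEq α]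

theorem exists_two_big {n m : ℕ} (hmix : Mixed π n) (hle : ∀ p, p.Prime → p ∈ π → p ≤ n → p ≤ m) :
    (∃ r s : ℕ, r.Prime ∧ s.Prime ∧ r ≠ s ∧ r ∈ π ∧ s ∈ π ∧ r ≤ m ∧ s ≤ m) ∧ 3 ≤ m := by
  obtain ⟨r, s, hr, hs, hne, hrπ, hsπ, hrn, hsn⟩ := hmix.1
  have h1 := hle r hr hrπ hrn
  have h2 := hle s hs hsπ hsn
  refine ⟨⟨r, s, hr, hs, hne, hrπ, hsπ, h1, h2⟩, ?_⟩
  have := hr.two_le
  have := hs.two_le
  omega

/-- Induction hypothesis of the classification. -/
def IH (π : Set ℕ) (α : Type u) [Fintype α] : Prop :=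
  ∀ (β : Type u) [Fintype β] [DecidableEq β] (H : Subgroup (Perm β)),
    Fintype.card β < Fintype.card α → HallA π H → Mixed π (Fintype.card β) → Num π (Fintype.card β)

theorem classify_intrans {M : Subgroup (Perm α)} (ih : IH π α) (hM : HallA π M)
    (hmix : Mixed π (Fintype.card α)) {O : Finset α} (hO : ∀ g ∈ M, ∀ x, g x ∈ O ↔ x ∈ O)
    (hne : O ≠ ∅) (hbig : O.card ≤ Oᶜ.card) : ∃ 𝓕, Obj π α 𝓕 ∧ M ≤ MulAction.stabilizer (Perm α) 𝓕 := by
  classical
  set k := O.card with hk
  set m := Oᶜ.card with hm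
  have hn : m + k = Fintype.card α := by rw [hm, hk, add_comm, Finset.card_add_card_compl]
  have hk1 : 1 ≤ k := Finset.card_pos.2 (Finset.nonempty_iff_ne_empty.2 hne)
  have h5 := hmix.five_le
  -- primes of `π` are at most `m`
  have hle : ∀ p, p.Prime → p ∈ π → p ≤ Fintype.card α → p ≤ m := by
    intro p hp hpπ hpn
    rcases eq_or_ne p 2 with rfl | hp2
    · omega
    obtain ⟨g, hg, hgc, hgs⟩ := exists_cycle_mem hM hp hp2 hpπ hpn
    obtain ⟨x, hx⟩ : g.support.Nonempty := Finset.card_pos.1 (hgs ▸ hp.pos)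
    have hsub : ∀ y ∈ g.support, (y ∈ O ↔ x ∈ O) := by
      intro y hy
      obtain ⟨j, rfl⟩ := hgc.sameCycle (Equiv.Perm.mem_support.1 hx) (Equiv.Perm.mem_support.1 hy)
      exact hO _ (M.zpow_mem hg j) x
    by_cases hxO : x ∈ O
    · have := Finset.card_le_card (fun y hy => (hsub y hy).2 hxO : g.support ⊆ O)
      omega
    · have := Finset.card_le_card
        (fun y hy => Finset.mem_compl.2 (mt (hsub y hy).1 hxO) : g.support ⊆ Oᶜ)
      omega
  let f : α → Bool := fun x => decide (x ∈ O)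
  have hf : ∀ g ∈ M, ∀ x y, f x = f y → f (g x) = f (g y) := by
    intro g hg x y h
    simpa [f, hO g hg x, hO g hg y] using h
  have hcard : ∀ i, Fintype.card {a // f a = i} = if i then k else m := by
    intro i
    rw [Fintype.card_subtype]
    cases i
    · simp only [f, decide_eq_false_iff_not, Bool.false_eq_true, if_false, hm]
      congr 1
      ext a; simp
    · simp only [f, decide_eq_true_eq, if_true, hk]
      congr 1
      ext a; simp
  obtain ⟨Hm, hHm⟩ := hall_fiber f hM hf false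
  obtain ⟨Hk, hHk⟩ := hall_fiber f hM hf true
  have hside : ∀ x : ℕ, Full π x ∨ ∃ r, r.Prime ∧ r ≤ x ∧ r ∉ π := fun x => by
    by_cases h : Full π x
    · exact Or.inl h
    · simp only [Full, not_forall] at h
      obtain ⟨r, hr, hrx, hrπ⟩ := h
      exact Or.inr ⟨r, hr, hrx, hrπ⟩
  obtain ⟨htwo, hm3⟩ := exists_two_big hmix hle
  have hmS : Full π m ∨ Num π m := by
    rcases hside m with h | h
    · exact Or.inl h
    · have := ih _ Hm (by rw [hcard false]; simp; omega) hHm (by rw [hcard false]; exact ⟨htwo, h⟩)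
      rw [hcard false] at this
      exact Or.inr this
  have hkS : Full π k ∨ Num π k := by
    rcases hside k with h | ⟨r, hr, hrk, hrπ⟩
    · exact Or.inl h
    · have hmk : ∀ p, p.Prime → p ∈ π → p ≤ Fintype.card α → p ≤ k := by
        intro p hp hpπ hpn
        have hpm := hle p hp hpπ hpn
        rcases hmS with hF | ⟨-, hc⟩ | ⟨-, hc⟩
        · have : m < r := by
            by_contra h'
            exact hrπ (hF r hr (by omega))
          omega
        · have : m ≤ r := by
            by_contra h'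
            exact hrπ ((hc r hr (by omega)).2 (by omega))
          omega
        · have hp3 := (hc p hp hpm).1 hpπ
          have hr5 : r ≠ 2 ∧ r ≠ 3 := by
            constructor <;> rintro rfl
            · exact hrπ ((hc 2 Nat.prime_two (by omega)).2 (Or.inl rfl))
            · exact hrπ ((hc 3 Nat.prime_three (by omega)).2 (Or.inr rfl))
          have := hr.two_le
          omega
      have hmixk : Mixed π k := ⟨(exists_two_big hmix hmk).1, r, hr, hrk, hrπ⟩
      have := ih _ Hk (by rw [hcard true]; simp; omega) hHk (by rw [hcard true]; exact hmixk)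
      rw [hcard true] at this
      exact Or.inr this
  have hD : M ≤ fibStab f := fun g hg x => by simp [f, hO g hg x]
  have hnA : ¬ fibStab f ≤ alternatingGroup α := by
    obtain ⟨a, ha, b, hb, hab⟩ := Finset.one_lt_card.1 (show 1 < Oᶜ.card by omega)
    rw [Finset.mem_compl] at ha hb
    exact sign_fibStab f hab (by simp [f, ha, hb])
  have hX : 2 * Nat.card M ∣ k.factorial * m.factorial := by
    have h := Subgroup.card_dvd_of_le (le_inf hD hM.1)
    have := Nat.mul_dvd_mul_left 2 h
    rw [two_mul_card_inf_alt hnA, card_fibStab, Fintype.prod_bool, hcard, hcard] at this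
    simpa using this
  have hC : CopPi π ((m + k).choose k) := fun p hp hpπ =>
    not_dvd_cofactor hM (by omega) hX (by
      rw [← hn, mul_comm, ← mul_assoc]
      have := Nat.choose_mul_factorial_mul_factorial (show k ≤ m + k by omega)
      rwa [Nat.add_sub_cancel] at this) hp hpπ
  have hstab : ∀ S : Finset α, (∀ g ∈ M, ∀ x, g x ∈ S ↔ x ∈ S) →
      M ≤ MulAction.stabilizer (Perm α) ({S} : Finset (Finset α)) := by
    intro S hS g hg
    rw [MulAction.mem_stabilizer_iff, Finset.smul_finset_singleton]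
    congr 1
    ext y
    rw [Finset.mem_smul_finset]
    constructor
    · rintro ⟨z, hz, rfl⟩
      exact (hS g hg z).2 hz
    · intro hy
      exact ⟨g⁻¹ y, (hS g⁻¹ (M.inv_mem hg) y).2 hy, Equiv.apply_symm_apply g y⟩
  rcases pair hk1 hbig (hn ▸ hmix) hmS hkS hC with ⟨hk', hp, hc⟩ | ⟨hm', hk', hc⟩
  · obtain ⟨x, hx⟩ := Finset.card_eq_one.1 (hk ▸ hk')
    refine ⟨{O}, Or.inl ⟨hn ▸ hp, hn ▸ hc, x, by rw [hx]⟩, hstab O hO⟩
  · refine ⟨{O}, Or.inr ⟨hn ▸ hc, Or.inl ⟨by omega, O, by omega, rfl⟩⟩, hstab O hO⟩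

theorem classify_imprim {M : Subgroup (Perm α)} (ih : IH π α) (hM : HallA π M)
    (hmix : Mixed π (Fintype.card α)) [MulAction.IsPretransitive M α]
    {B : Set α} (hB : MulAction.IsBlock M B) (hB1 : B.Nontrivial) (hB2 : B ≠ Set.univ) :
    ∃ 𝓕, Obj π α 𝓕 ∧ M ≤ MulAction.stabilizer (Perm α) 𝓕 := by
  classical
  have h5 := hmix.five_le
  obtain ⟨b0, hb0⟩ := hB1.nonempty
  have hab := hB.ncard_block_mul_ncard_orbit_eq ⟨b0, hb0⟩
  rw [Nat.card_eq_fintype_card] at hab
  set a := B.ncard with ha
  set b := (MulAction.orbit M B).ncard with hb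
  have ha2 : 2 ≤ a := (Set.one_lt_ncard (Set.toFinite B)).2 hB1
  have hb2 : 2 ≤ b := by
    by_contra h
    refine hB2 (Set.eq_of_subset_of_ncard_le (Set.subset_univ B) ?_)
    rw [Set.ncard_univ, Nat.card_eq_fintype_card, ← hab, ← ha]
    calc a * b ≤ a * 1 := Nat.mul_le_mul_left a (by omega)
      _ = a := mul_one a
  choose g0 hg0 using fun x => MulAction.exists_smul_eq M b0 x
  let f : α → Set α := fun x => g0 x • B
  have hfx : ∀ x, x ∈ f x := fun x => ⟨b0, hb0, hg0 x⟩
  have hkey : ∀ (g : M) x, x ∈ g • B → f x = g • B := fun g x hx =>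
    hB.smul_eq_smul_of_nonempty ⟨x, hfx x, hx⟩
  have hfg : ∀ (g : M) x, f ((g : Perm α) x) = g • f x := by
    intro g x
    show _ = g • g0 x • B
    rw [smul_smul]
    refine hkey _ _ ?_
    rw [← smul_smul]
    exact Set.smul_mem_smul_set (hfx x)
  have hf : ∀ g ∈ M, ∀ x y, f x = f y → f (g x) = f (g y) := fun g hg x y h => by
    rw [hfg ⟨g, hg⟩ x, hfg ⟨g, hg⟩ y, h]
  have hfib : ∀ g : M, {y | f y = g • B} = g • B := by
    intro g
    ext y
    exact ⟨fun h => h ▸ hfx y, hkey g y⟩
  have hfa : ∀ g : M, Fintype.card {y // f y = g • B} = a := by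
    intro g
    rw [← Nat.card_eq_fintype_card, ← Set.coe_setOf, Nat.card_coe_set_eq, hfib, Set.ncard_smul_set, ← ha]
  -- odd primes of `π` are at most the block size
  have hle : ∀ p, p.Prime → p ∈ π → p ≤ Fintype.card α → p ≤ a := by
    intro p hp hpπ hpn
    rcases eq_or_ne p 2 with rfl | hp2
    · omega
    obtain ⟨g, hg, hgc, hgs⟩ := exists_cycle_mem hM hp hp2 hpπ hpn
    by_contra hpa
    obtain ⟨x, hx⟩ : g.support.Nonempty := Finset.card_pos.1 (hgs ▸ hp.pos)
    have hord : orderOf g = p := by rw [hgc.orderOf, hgs]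
    have hC : (f x).ncard = a := by rw [Set.ncard_smul_set]
    have hmove : f (g x) ≠ f x := by
      intro hgfix
      have hpowfix : ∀ j : ℕ, f ((g ^ j) x) = f x := by
        intro j
        induction j with
        | zero => rfl
        | succ j ihj => rw [pow_succ', Equiv.Perm.mul_apply, hf g hg _ _ ihj, hgfix]
      have : (g.support : Set α) ⊆ f x := by
        intro y hy
        obtain ⟨j, rfl⟩ : ∃ j : ℕ, (g ^ j) x = y :=
          (hgc.sameCycle (Equiv.Perm.mem_support.1 hx) (Equiv.Perm.mem_support.1 (Finset.mem_coe.1 hy))).exists_nat_pow_eq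
        rw [← hpowfix j]; exact hfx _
      have := Set.ncard_le_ncard this (Set.toFinite _)
      rw [Set.ncard_coe_finset, hgs, hC] at this
      omega
    have hfix : ∀ y ∈ f x, g y ≠ y := by
      intro y hy h
      have hyx : f y = f x := hkey _ y hy
      apply hmove
      rw [← hf g hg y x hyx, h, hyx]
    have hsub : ∀ y ∈ f x, y = x := by
      intro y hy
      by_contra hne
      have hys : y ∈ g.support := Equiv.Perm.mem_support.2 (hfix y hy)
      obtain ⟨j, rfl⟩ : ∃ j : ℕ, (g ^ j) x = y :=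
        (hgc.sameCycle (Equiv.Perm.mem_support.1 hx) (Equiv.Perm.mem_support.1 hys)).exists_nat_pow_eq
      have hj : ¬ p ∣ j := by
        rintro ⟨c, rfl⟩
        rw [← hord, pow_mul, pow_orderOf_eq_one, one_pow] at hne
        exact hne rfl
      have hjx : f ((g ^ j) x) = f x := hkey _ _ hy
      have hall : ∀ c : ℕ, f ((g ^ (j * c)) x) = f x := by
        intro c
        induction c with
        | zero => rfl
        | succ c ihc =>
          rw [Nat.mul_succ, add_comm, pow_add, Equiv.Perm.mul_apply, hf _ (M.pow_mem hg j) _ _ ihc, hjx]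
      obtain ⟨c, -, hc⟩ := Nat.exists_mul_mod_eq_one_of_coprime
        ((hp.coprime_iff_not_dvd.2 hj).symm) hp.one_lt
      have h1 := hall c
      rw [← pow_mod_orderOf, hord, hc, pow_one] at h1
      exact hmove h1
    have : (f x).ncard ≤ 1 := (Set.ncard_le_one (Set.toFinite _)).2 fun y hy z hz => (hsub y hy).trans (hsub z hz).symm
    omega
  obtain ⟨htwo, ha3⟩ := exists_two_big hmix hle
  have haS : Full π a ∨ Num π a := by
    by_cases h : Full π a
    · exact Or.inl h
    · simp only [Full, not_forall] at h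
      obtain ⟨r, hr, hra, hrπ⟩ := h
      obtain ⟨H, hH⟩ := hall_fiber f hM hf ((1 : M) • B)
      have hlt : a < Fintype.card α := by
        rw [← hab]
        calc a = a * 1 := (mul_one a).symm
          _ < a * b := Nat.mul_lt_mul_of_pos_left (by omega) (by omega)
      have := ih _ H (by rw [hfa]; exact hlt) hH (by rw [hfa]; exact ⟨htwo, r, hr, hra, hrπ⟩)
      rw [hfa] at this
      exact Or.inr this
  -- order bound
  let φ : M →* Perm ↥(MulAction.orbit M B) := MulAction.toPermHom M _
  have hker : φ.ker.map M.subtype ≤ fibStab f ⊓ alternatingGroup α := by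
    rintro _ ⟨g, hg, rfl⟩
    refine Subgroup.mem_inf.2 ⟨fun x => ?_, hM.1 g.2⟩
    have := congrArg Subtype.val (Equiv.congr_fun (MonoidHom.mem_ker.1 hg) ⟨f x, MulAction.mem_orbit B (g0 x)⟩)
    show f ((g : Perm α) x) = f x
    rw [hfg]
    exact this
  have hnA : ¬ fibStab f ≤ alternatingGroup α := by
    obtain ⟨c, hc, d, hd, hcd⟩ := hB1
    refine sign_fibStab f hcd ?_
    rw [hkey 1 c (by simpa using hc), hkey 1 d (by simpa using hd)]
  have hprod : Nat.card (fibStab f) = a.factorial ^ b := by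
    rw [card_fibStab, hb, Set.ncard_eq_toFinset_card']
    rw [← Finset.prod_subset (Finset.subset_univ (MulAction.orbit M B).toFinset)]
    · rw [Finset.prod_congr rfl (g := fun _ => a.factorial), Finset.prod_const]
      intro i hi
      obtain ⟨g, rfl⟩ := Set.mem_toFinset.1 hi
      rw [hfa]
    · intro i _ hi
      rw [Fintype.card_eq_zero_iff.2, Nat.factorial_zero]
      exact ⟨fun y => hi (Set.mem_toFinset.2 (y.2 ▸ MulAction.mem_orbit B (g0 y.1)))⟩
  have hX : 2 * Nat.card M ∣ a.factorial ^ b * b.factorial := by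
    have h1 := φ.ker.card_mul_index
    rw [Subgroup.index_ker] at h1
    rw [← h1, ← mul_assoc]
    refine Nat.mul_dvd_mul ?_ ?_
    · rw [← hprod, ← two_mul_card_inf_alt hnA]
      refine Nat.mul_dvd_mul_left 2 ?_
      rw [← Subgroup.card_map_of_injective (K := φ.ker) M.subtype_injective]
      exact Subgroup.card_dvd_of_le hker
    · refine (Subgroup.card_subgroup_dvd_card φ.range).trans ?_
      rw [Nat.card_perm, Nat.card_coe_set_eq]
  have hC : CopPi π (Nat.uniformBell b a) := fun p hp hpπ =>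
    not_dvd_cofactor hM (by omega) hX (by
      rw [← hab, mul_comm a b, ← Nat.uniformBell_mul_eq b (by omega : a ≠ 0)]
      ring) hp hpπ
  obtain ⟨hF, ha4, hb'⟩ := imprimitive ha3 hb2 haS hC
  have hn8 : Fintype.card α = 8 := by rw [← hab, ha4, hb']
  have hcondπ : ∀ r : ℕ, r.Prime → r ≤ Fintype.card α → (r ∈ π ↔ (r = 2 ∨ r = 3)) := by
    intro r hr hrn
    refine ⟨fun h => ?_, ?_⟩
    · have := hle r hr h hrn
      have := hr.two_le
      have : r ≠ 4 := by rintro rfl; exact absurd hr (by decide)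
      omega
    · rintro (rfl | rfl)
      · exact hF 2 Nat.prime_two (by omega)
      · exact hF 3 Nat.prime_three (by omega)
  refine ⟨{B.toFinset, B.toFinsetᶜ}, Or.inr ⟨hcondπ, Or.inr ⟨hn8, B.toFinset, ?_, rfl⟩⟩, ?_⟩
  · rw [← Set.ncard_eq_toFinset_card', ← ha, ha4]
  intro g hg
  rw [MulAction.mem_stabilizer_iff]
  have hgB : g • B.toFinset = B.toFinset ∨ g • B.toFinset = B.toFinsetᶜ := by
    rcases em ((⟨g, hg⟩ : M) • B = B) with h | h
    · refine Or.inl (Finset.coe_injective ?_)
      rw [Finset.coe_smul_finset, Set.coe_toFinset]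
      exact h
    · refine Or.inr (Finset.coe_injective ?_)
      rw [Finset.coe_smul_finset, Finset.coe_compl, Set.coe_toFinset]
      have hdis : Disjoint ((⟨g, hg⟩ : M) • B) B := by
        have := hB (g₁ := ⟨g, hg⟩) (g₂ := 1) (by rwa [one_smul])
        rwa [one_smul] at this
      refine Set.eq_of_subset_of_ncard_le (Set.subset_compl_iff_disjoint_right.2 hdis) ?_ (Set.toFinite _)
      rw [Set.ncard_compl, Set.ncard_smul_set, Nat.card_eq_fintype_card, hn8, ← ha, ha4]
  have hcompl : g • B.toFinsetᶜ = (g • B.toFinset)ᶜ := by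
    refine Finset.coe_injective ?_
    rw [Finset.coe_smul_finset, Finset.coe_compl, Finset.coe_compl, Finset.coe_smul_finset, Set.smul_set_compl]
  rw [Finset.smul_finset_insert, Finset.smul_finset_singleton, hcompl]
  rcases hgB with h | h
  · rw [h]
  · rw [h, compl_compl, Finset.pair_comm]

theorem classify_aux : ∀ (n : ℕ) (α : Type u) [Fintype α] [DecidableEq α] (M : Subgroup (Perm α)),
    Fintype.card α = n → HallA π M → Mixed π n →
      ∃ 𝓕, Obj π α 𝓕 ∧ M ≤ MulAction.stabilizer (Perm α) 𝓕 := by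
  intro n
  induction n using Nat.strong_induction_on with
  | _ n ih =>
    intro α _ _ M hn hM hmix
    subst hn
    have ih' : IH π α := fun β _ _ H hlt hH hm => by
      obtain ⟨𝓕, h, -⟩ := ih _ hlt β H rfl hH hm
      exact h.num
    by_cases htr : MulAction.IsPretransitive M α
    · by_cases hprim : MulAction.IsPreprimitive M α
      · exact (primitive_false hM hmix hprim).elim
      · obtain ⟨B, hB, hBt⟩ : ∃ B : Set α, MulAction.IsBlock M B ∧ ¬ MulAction.IsTrivialBlock B := by
          by_contra h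
          push Not at h
          exact hprim { isTrivialBlock_of_isBlock := fun {B} hB => h B hB }
        rw [MulAction.IsTrivialBlock, not_or, Set.not_subsingleton_iff] at hBt
        exact classify_imprim ih' hM hmix hB hBt.1 hBt.2
    · classical
      have h5 := hmix.five_le
      obtain ⟨x0⟩ : Nonempty α := Fintype.card_pos_iff.1 (by omega)
      set O : Finset α := (MulAction.orbit M x0).toFinset with hOdef
      have hO : ∀ g ∈ M, ∀ x, g x ∈ O ↔ x ∈ O := by
        intro g hg x
        rw [hOdef, Set.mem_toFinset, Set.mem_toFinset, ← MulAction.orbit_eq_iff, ← MulAction.orbit_eq_iff]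
        rw [show MulAction.orbit M (g x) = MulAction.orbit M x from MulAction.orbit_smul (⟨g, hg⟩ : M) x]
      have hne : O ≠ ∅ := Finset.ne_empty_of_mem (Set.mem_toFinset.2 (MulAction.mem_orbit_self x0))
      have hne' : Oᶜ ≠ ∅ := by
        intro h
        rw [Finset.compl_eq_empty_iff] at h
        refine htr ⟨fun x y => ?_⟩
        have hx : x ∈ O := h ▸ Finset.mem_univ x
        have hy : y ∈ O := h ▸ Finset.mem_univ y
        rw [hOdef, Set.mem_toFinset, ← MulAction.orbit_eq_iff] at hx hy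
        exact MulAction.mem_orbit_iff.1 (hx.trans hy.symm ▸ MulAction.mem_orbit_self y : y ∈ MulAction.orbit M x)
      rcases le_total O.card Oᶜ.card with h | h
      · exact classify_intrans ih' hM hmix hO hne h
      · refine classify_intrans ih' hM hmix (O := Oᶜ) (fun g hg x => ?_) hne' (by rwa [compl_compl])
        rw [Finset.mem_compl, Finset.mem_compl, hO g hg x]

theorem classify {M : Subgroup (Perm α)} (hM : HallA π M) (hmix : Mixed π (Fintype.card α)) :
    ∃ 𝓕, Obj π α 𝓕 ∧ M ≤ MulAction.stabilizer (Perm α) 𝓕 :=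
  classify_aux _ α M rfl hM hmix

end Cfsg.Agent.PermHall
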