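import Cfsg.Agent.Lib.Solvable.Hall
import Cfsg.Agent.Lib.Blichfeldt.Hall
import Cfsg.Agent.Lib.ClassIndex.PrimeCycles
import Cfsg.Agent.Lib.ExtPrim.Abelian
import Cfsg.Agent.Lib.Solvable.Converse
import Mathlib.GroupTheory.Perm.DomMulAct
import Mathlib.GroupTheory.Perm.Cycle.PossibleTypes

/-!
# Hall subgroups of alternating groups: tools

`HallA π M` : `M` is a Hall `π`-subgroup of the alternating group, as a subgroup of the symmetric group.
-/

set_option autoImplicit false

namespace Cfsg.Agent.PermHall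

open Equiv Equiv.Perm

section group

variable {G : Type*} [Group G] [Finite G] {π : Set ℕ}

/-- A Hall subgroup meets a subgroup it normalises in a Hall subgroup. -/
theorem hallOf_inf {M K A : Subgroup G} (hM : Cfsg.IsPiHallOf π M A) (hK : K ≤ A)
    (hn : ∀ g ∈ M, ∀ k ∈ K, g * k * g⁻¹ ∈ K) : Cfsg.IsPiHallOf π (M ⊓ K) K := by
  have hMN : M ≤ Subgroup.normalizer (K : Set G) := by
    intro g hg
    rw [Subgroup.mem_normalizer_iff]
    intro k
    refine ⟨hn g hg k, fun h => ?_⟩
    have := hn g⁻¹ (M.inv_mem hg) _ h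
    simpa [mul_assoc] using this
  set J := Subgroup.normalizer (K : Set G) ⊓ A with hJ
  have hKJ : K ≤ J := le_inf Subgroup.le_normalizer hK
  have hMJ : M ≤ J := le_inf hMN hM.1
  haveI : (K.subgroupOf J).Normal := by
    refine ⟨fun k hk g => ?_⟩
    exact ((Subgroup.mem_normalizer_iff.1 (Subgroup.mem_inf.1 g.2).1) (k : G)).1 hk
  have hMH : Cfsg.IsPiHallOf π M J := by
    refine ⟨hMJ, hM.2.1, fun p hp hpπ hd => hM.2.2 p hp hpπ (hd.trans ?_)⟩
    exact Dvd.intro _ (Subgroup.relIndex_mul_relIndex M J A hMJ inf_le_right)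
  have h := Solvable.isPiHallOf_map_subtype (Solvable.isPiHall_subgroupOf
    (Solvable.isPiHall_inf_normal (N := K.subgroupOf J) (Solvable.isPiHall_subgroupOf hMH)))
  refine ⟨inf_le_right, fun p hp hd => hM.2.1 p hp (hd.trans (Subgroup.card_dvd_of_le inf_le_left)), ?_⟩
  intro p hp hpπ hd
  refine (Solvable.isPiHall_inf_normal (N := K.subgroupOf J) (Solvable.isPiHall_subgroupOf hMH)).2.2 p hp hpπ ?_
  rw [Subgroup.inf_relIndex_right] at hd ⊢
  rwa [Subgroup.relIndex_subgroupOf hKJ]

/-- A `π`-subgroup containing a Hall `π`-subgroup is equal to it. -/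
theorem hallOf_eq_of_le {M W A : Subgroup G} (hM : Cfsg.IsPiHallOf π M A) (hMW : M ≤ W) (hW : W ≤ A)
    (hπ : ∀ p : ℕ, p.Prime → p ∣ Nat.card W → p ∈ π) : M = W := by
  refine le_antisymm hMW (Subgroup.relIndex_eq_one.1 ?_)
  by_contra hne
  obtain ⟨p, hp, hd⟩ := Nat.exists_prime_and_dvd hne
  refine hM.2.2 p hp (hπ p hp (hd.trans (M.relIndex_dvd_card W))) (hd.trans ?_)
  exact Dvd.intro _ (Subgroup.relIndex_mul_relIndex M W A hMW hW)

/-- The image of a Hall subgroup under a homomorphism covering `N`, cut down to normal `N`. -/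
theorem exists_hall_image {K : Subgroup G} {L : Subgroup G} (hL : Cfsg.IsPiHallOf π L K)
    {Q : Type*} [Group Q] [Finite Q] (φ : K →* Q) (N : Subgroup Q) [N.Normal] (hN : N ≤ φ.range) :
    ∃ H : Subgroup Q, Cfsg.IsPiHallOf π H N := by
  have h1 := Solvable.isPiHall_map (Solvable.isPiHall_subgroupOf hL) φ.rangeRestrict_surjective
  have h2 := Solvable.isPiHall_inf_normal (N := N.subgroupOf φ.range) h1
  refine ⟨(((L.subgroupOf K).map φ.rangeRestrict) ⊓ N.subgroupOf φ.range).map φ.range.subtype, ?_, ?_, ?_⟩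
  · rintro _ ⟨x, hx, rfl⟩
    exact (Subgroup.mem_inf.1 hx).2
  · rw [Subgroup.card_map_of_injective φ.range.subtype_injective]; exact h2.2.1
  · intro p hp hpπ hd
    refine h2.2.2 p hp hpπ ?_
    have hN' : (N.subgroupOf φ.range).map φ.range.subtype = N := by
      rw [Subgroup.subgroupOf_map_subtype, inf_eq_left.2 hN]
    have := Subgroup.relIndex_map_map_of_injective (f := φ.range.subtype)
      (((L.subgroupOf K).map φ.rangeRestrict) ⊓ N.subgroupOf φ.range) (N.subgroupOf φ.range)
      φ.range.subtype_injective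
    rw [hN'] at this
    rwa [← this]

end group

variable {α : Type*} [Fintype α] [DecidableEq α] {π : Set ℕ}

/-- `M` is a Hall `π`-subgroup of the alternating group. -/
abbrev HallA (π : Set ℕ) (M : Subgroup (Perm α)) : Prop := Cfsg.IsPiHallOf π M (alternatingGroup α)

theorem two_mul_card_alt (h : 2 ≤ Fintype.card α) :
    2 * Nat.card (alternatingGroup α) = (Fintype.card α).factorial := by
  haveI : Nontrivial α := Fintype.one_lt_card_iff_nontrivial.1 h
  rw [two_mul_nat_card_alternatingGroup, Nat.card_perm, Nat.card_eq_fintype_card]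

/-- If twice the order of a Hall subgroup divides `X` and `X * Z = n!`, then `Z` has no `π`-prime. -/
theorem not_dvd_cofactor {M : Subgroup (Perm α)} (hM : HallA π M) (h : 2 ≤ Fintype.card α) {X Z : ℕ}
    (hX : 2 * Nat.card M ∣ X) (hXZ : X * Z = (Fintype.card α).factorial) {p : ℕ} (hp : p.Prime)
    (hpπ : p ∈ π) : ¬ p ∣ Z := by
  intro hd
  obtain ⟨t, rfl⟩ := hX
  refine hM.2.2 p hp hpπ (hd.trans ⟨t, ?_⟩)
  have h1 : Nat.card M * M.relIndex (alternatingGroup α) = Nat.card (alternatingGroup α) := by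
    rw [← Subgroup.relIndex_bot_left, ← Subgroup.relIndex_bot_left]
    exact Subgroup.relIndex_mul_relIndex ⊥ M _ bot_le hM.1
  refine Nat.eq_of_mul_eq_mul_left (n := 2 * Nat.card M) (Nat.mul_pos two_pos Nat.card_pos) ?_
  rw [mul_assoc, h1, two_mul_card_alt h, ← hXZ]
  ring

/-! ### Fibre stabilisers -/

section fiber

variable {ι : Type*} (f : α → ι)

/-- Permutations preserving every fibre of `f`. -/
def fibStab : Subgroup (Perm α) where
  carrier := {g | ∀ x, f (g x) = f x}
  one_mem' := fun _ => rfl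
  mul_mem' := fun {g h} hg hh x => by rw [Equiv.Perm.mul_apply, hg, hh]
  inv_mem' := fun {g} hg x => by
    conv_rhs => rw [← Equiv.apply_symm_apply g x]
    exact (hg _).symm

omit [Fintype α] [DecidableEq α] in
theorem mem_fibStab {g : Perm α} : g ∈ fibStab f ↔ ∀ x, f (g x) = f x := Iff.rfl

theorem card_fibStab [Fintype ι] [DecidableEq ι] :
    Nat.card (fibStab f) = ∏ i, (Fintype.card {a // f a = i}).factorial := by
  classical
  rw [← DomMulAct.stabilizer_card f, ← Nat.card_eq_fintype_card]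
  exact Nat.card_congr (Equiv.subtypeEquivRight fun g => funext_iff.symm)

theorem sign_fibStab {x y : α} (hxy : x ≠ y) (h : f x = f y) : ¬ fibStab f ≤ alternatingGroup α := by
  intro hle
  have hmem : swap x y ∈ fibStab f := fun z => by
    rw [swap_apply_def]
    split_ifs with h1 h2
    · rw [h1, h]
    · rw [h2, h]
    · rfl
  have := Equiv.Perm.mem_alternatingGroup.1 (hle hmem)
  rw [sign_swap hxy] at this
  exact absurd this (by decide)

theorem two_mul_card_inf_alt {D : Subgroup (Perm α)} (hD : ¬ D ≤ alternatingGroup α) :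
    2 * Nat.card ↥(D ⊓ alternatingGroup α) = Nat.card D := by
  haveI : Nontrivial α := by
    by_contra hn
    rw [not_nontrivial_iff_subsingleton] at hn
    exact hD fun g _ => by rw [Equiv.Perm.mem_alternatingGroup, Subsingleton.elim g 1, map_one]
  have h2 : (alternatingGroup α).relIndex D = 2 := by
    have hdvd : (alternatingGroup α).relIndex D ∣ 2 :=
      alternatingGroup.index_eq_two (α := α) ▸ Subgroup.relIndex_dvd_index_of_normal _ _
    rcases (Nat.dvd_prime Nat.prime_two).1 hdvd with h | h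
    · exact absurd (Subgroup.relIndex_eq_one.1 h) hD
    · exact h
  have h1 : Nat.card ↥(D ⊓ alternatingGroup α) * (D ⊓ alternatingGroup α).relIndex D = Nat.card D := by
    rw [← Subgroup.relIndex_bot_left, ← Subgroup.relIndex_bot_left]
    exact Subgroup.relIndex_mul_relIndex ⊥ _ _ bot_le inf_le_left
  rw [Subgroup.inf_relIndex_left, h2] at h1
  rw [← h1, mul_comm]

/-- Restriction to a fibre. -/
def fibRes (i : ι) : ↥(fibStab f ⊓ alternatingGroup α) →* Perm {a // f a = i} where
  toFun g := (g : Perm α).subtypePerm fun x => by rw [(Subgroup.mem_inf.1 g.2).1 x]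
  map_one' := by ext; rfl
  map_mul' _ _ := by ext; rfl

/-- A Hall subgroup of `A_n` preserving a fibration gives one of the alternating group of a fibre. -/
theorem hall_fiber {M : Subgroup (Perm α)} (hM : HallA π M)
    (hf : ∀ g ∈ M, ∀ x y, f x = f y → f (g x) = f (g y)) (i : ι) [DecidableEq ι] :
    ∃ H : Subgroup (Perm {a // f a = i}), HallA π H := by
  have hn : ∀ g ∈ M, ∀ k ∈ fibStab f ⊓ alternatingGroup α, g * k * g⁻¹ ∈ fibStab f ⊓ alternatingGroup α := by
    intro g hg k hk
    rw [Subgroup.mem_inf] at hk ⊢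
    refine ⟨fun x => ?_, ?_⟩
    · have := hf g hg _ _ (hk.1 (g⁻¹ x))
      simpa [Equiv.Perm.mul_apply] using this
    · exact (inferInstance : (alternatingGroup α).Normal).conj_mem k hk.2 g
  refine exists_hall_image (hallOf_inf hM inf_le_right hn) (fibRes f i) (alternatingGroup _) ?_
  intro σ hσ
  have hmem : σ.ofSubtype ∈ fibStab f ⊓ alternatingGroup α := by
    refine Subgroup.mem_inf.2 ⟨fun x => ?_, ?_⟩
    · by_cases hx : f x = i
      · rw [Equiv.Perm.ofSubtype_apply_of_mem σ hx, hx]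
        exact (σ ⟨x, hx⟩).2
      · rw [Equiv.Perm.ofSubtype_apply_of_not_mem σ hx]
    · rw [Equiv.Perm.mem_alternatingGroup, Equiv.Perm.sign_ofSubtype]
      exact Equiv.Perm.mem_alternatingGroup.1 hσ
  refine ⟨⟨_, hmem⟩, ?_⟩
  ext ⟨x, hx⟩
  show (σ.ofSubtype : Perm α) x = _
  exact Equiv.Perm.ofSubtype_apply_of_mem σ hx

end fiber

/-! ### Cycles in a Hall subgroup -/

theorem exists_cycle_mem {M : Subgroup (Perm α)} (hM : HallA π M) {p : ℕ} (hp : p.Prime) (hp2 : p ≠ 2)
    (hpπ : p ∈ π) (hpn : p ≤ Fintype.card α) : ∃ g ∈ M, g.IsCycle ∧ g.support.card = p := by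
  obtain ⟨σ, hσ⟩ := (Equiv.Perm.exists_with_cycleType_iff α (m := {p})).2
    ⟨by simpa using hpn, fun a ha => by rw [Multiset.mem_singleton.1 ha]; exact hp.two_le⟩
  have hc : σ.IsCycle := Equiv.Perm.card_cycleType_eq_one.1 (by rw [hσ]; rfl)
  have hs : σ.support.card = p := by rw [← Equiv.Perm.sum_cycleType, hσ]; simp
  have ho : orderOf σ = p := by rw [hc.orderOf, hs]
  have hA : σ ∈ alternatingGroup α := Equiv.Perm.mem_alternatingGroup.2
    (PrimeCycles.sign_eq_one_of_odd_order (by rw [ho]; exact hp.odd_of_ne_two hp2))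
  obtain ⟨c, hcm⟩ := Blichfeldt.exists_conj_mem_of_not_dvd hp (M.subgroupOf (alternatingGroup α))
    (hM.2.2 p hp hpπ) (y := ⟨σ, hA⟩) (a := 1)
    (by rw [pow_one, ← Subgroup.orderOf_coe]; exact ho)
  refine ⟨_, hcm, ?_, ?_⟩
  · exact hc.conj
  · show ((c : Perm α) * σ * (c : Perm α)⁻¹).support.card = p
    rw [Equiv.Perm.support_conj, Finset.card_map, hs]

theorem exists_abelian_normal {G : Type*} [Group G] [Nontrivial G] (h : Group.IsSolvable G) :
    ∃ A : Subgroup G, A.Normal ∧ A ≠ ⊥ ∧ ∀ a ∈ A, ∀ b ∈ A, a * b = b * a := by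
  classical
  have hex : ∃ n, derivedSeries G n = ⊥ := h.solvable
  have hpos : Nat.find hex ≠ 0 := fun h0 => by
    have := Nat.find_spec hex
    rw [h0, derivedSeries_zero] at this
    exact top_ne_bot this
  obtain ⟨m, hm⟩ := Nat.exists_eq_succ_of_ne_zero hpos
  refine ⟨derivedSeries G m, derivedSeries_normal G m, Nat.find_min hex (by omega), fun a ha b hb => ?_⟩
  have h1 := Nat.find_spec hex
  rw [hm, derivedSeries_succ, Subgroup.commutator_eq_bot_iff_le_centralizer] at h1
  exact (Subgroup.mem_centralizer_iff.1 (h1 hb)) a ha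

/-- A group of order `2 ^ e * q` on `q` points (`q` prime) has `2 ^ e ∣ q - 1`. -/
theorem prime_degree {K : Subgroup (Perm α)} {q e : ℕ} (hq : q.Prime) (hq2 : q ≠ 2)
    (hα : Fintype.card α = q) (hK : Nat.card K = 2 ^ e * q) : 2 ^ e ∣ q - 1 := by
  haveI : Fact q.Prime := ⟨hq⟩
  obtain ⟨u, hu⟩ := exists_prime_orderOf_dvd_card' (G := K) q (hK ▸ dvd_mul_left q _)
  have hu' : orderOf (u : Perm α) = q := by rw [Subgroup.orderOf_coe]; exact hu
  have hucyc : (u : Perm α).IsCycle := by
    refine Equiv.Perm.isCycle_of_prime_order'' (hα ▸ hq) ?_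
    rw [hu', hα]
  have husupp : (u : Perm α).support = Finset.univ := by
    refine Finset.eq_univ_of_card _ ?_
    rw [← hucyc.orderOf, hu', hα]
  haveI htr : MulAction.IsPretransitive K α := by
    refine ⟨fun x y => ?_⟩
    obtain ⟨k, hk⟩ := hucyc.sameCycle (x := x) (y := y)
      (Equiv.Perm.mem_support.1 (husupp ▸ Finset.mem_univ x)) (Equiv.Perm.mem_support.1 (husupp ▸ Finset.mem_univ y))
    exact ⟨u ^ k, by rw [Subgroup.smul_def, SubgroupClass.coe_zpow]; exact hk⟩
  have hsol : Group.IsSolvable K := by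
    refine Solvable.isSolvable_of_card_two_primes Nat.prime_two hq (Ne.symm hq2) fun r hr hd => ?_
    rw [hK] at hd
    rcases hr.dvd_mul.1 hd with h | h
    · exact Or.inl ((Nat.prime_dvd_prime_iff_eq hr Nat.prime_two).1 (hr.dvd_of_dvd_pow h))
    · exact Or.inr ((Nat.prime_dvd_prime_iff_eq hr hq).1 h)
  haveI : Nontrivial K := by
    rw [← Finite.one_lt_card_iff_nontrivial, hK]
    exact lt_of_lt_of_le hq.one_lt (Nat.le_mul_of_pos_left q (by positivity))
  obtain ⟨A, hAn, hAne, hAab⟩ := exists_abelian_normal hsol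
  haveI := hAn
  haveI : MulAction.IsPreprimitive K α := MulAction.IsPreprimitive.of_prime_card (by rwa [Nat.card_eq_fintype_card, hα])
  have hfree : ∀ x : α, ∀ a ∈ A, ((a : K) : Perm α) x = x → a = 1 := fun x a ha hax =>
    ExtPrim.abelian_normal_semiregular A hAab hAne ha (x := x) hax
  haveI htrA' := ExtPrim.abelian_normal_transitive (X := α) A hAne
  obtain ⟨x⟩ : Nonempty α := Fintype.card_pos_iff.1 (hα ▸ hq.pos)
  have htrA : ∀ y : α, ∃ a ∈ A, ((a : K) : Perm α) x = y := fun y => by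
    obtain ⟨⟨a, ha⟩, h⟩ := htrA'.exists_smul_eq x y
    exact ⟨a, ha, h⟩
  have hAq : Nat.card A = q := by
    rw [← hα, ← Nat.card_eq_fintype_card]
    refine Nat.card_congr (Equiv.ofBijective (fun a : A => ((a : K) : Perm α) x) ⟨?_, ?_⟩)
    · intro a b hab
      have h0 := hfree x (b⁻¹ * a : A).1 (b⁻¹ * a : A).2 (by
        simp only [Subgroup.coe_mul, Subgroup.coe_inv, Equiv.Perm.mul_apply]
        exact Equiv.Perm.inv_eq_iff_eq.2 hab)
      exact (inv_mul_eq_one.1 (Subtype.ext h0 : b⁻¹ * a = 1)).symm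
    · intro y
      obtain ⟨a, ha, rfl⟩ := htrA y
      exact ⟨⟨a, ha⟩, rfl⟩
  haveI := hAn
  haveI : IsCyclic A := isCyclic_of_prime_card hAq
  let Φ : MulAction.stabilizer K x →* MulAut A :=
    ((MulAut.conjNormal : K →* MulAut A)).comp (Subgroup.subtype _)
  have hΦ : Function.Injective Φ := by
    refine (injective_iff_map_eq_one Φ).2 fun g hg => Subtype.ext (Subtype.ext (Equiv.ext fun y => ?_))
    obtain ⟨a, ha, rfl⟩ := htrA y
    have h1 : (g : K) * a * (g : K)⁻¹ = a := by
      have := congrArg (fun φ : MulAut A => ((φ ⟨a, ha⟩ : A) : K)) hg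
      simpa [Φ] using this
    have hgx : (((g : K)) : Perm α) x = x := g.2
    show (((g : K)) : Perm α) (((a : K) : Perm α) x) = _
    rw [← Equiv.Perm.mul_apply, ← Subgroup.coe_mul, mul_inv_eq_iff_eq_mul.1 h1, Subgroup.coe_mul,
      Equiv.Perm.mul_apply, hgx]
    rfl
  have hcardS : Nat.card (MulAction.stabilizer K x) = 2 ^ e := by
    have h1 := (MulAction.stabilizer K x).card_mul_index
    rw [MulAction.index_stabilizer_of_transitive, Nat.card_eq_fintype_card (α := α), hα, hK] at h1
    exact Nat.eq_of_mul_eq_mul_right hq.pos h1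
  have hd : Nat.card (MulAction.stabilizer K x) ∣ Nat.card (MulAut A) := Subgroup.card_dvd_of_injective Φ hΦ
  rwa [hcardS, IsCyclic.card_mulAut, hAq, Nat.totient_prime hq] at hd

end Cfsg.Agent.PermHall
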