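import Cfsg.Agent.Lib.PermHall.Classify

/-!
# Hall subgroups of symmetric and alternating groups: existence, conjugacy, `D_π`

* `small_cases` : the trivial cases (`≤ 1` prime of `π`, or all primes);
* `exists_hall_perm_of_obj`, `hallA_eq`, `exists_smul_obj`;
* `epi_perm_iff`, `cpi_alt`, `cpi_perm`, `epi_perm_of_alt`, `extend_hall`, `dpi_alt_iff`.
-/

set_option autoImplicit false

open scoped Pointwise

universe u

namespace Cfsg.Agent.PermHall

open Equiv Equiv.Perm

variable {π : Set ℕ}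

section trivial

variable {G : Type*} [Group G] [Finite G]

/-- At most one prime of `π` divides `|G|`, or all do. -/
def Small (π : Set ℕ) (G : Type*) : Prop :=
  (∀ r s : ℕ, r.Prime → s.Prime → r ∈ π → s ∈ π → r ∣ Nat.card G → s ∣ Nat.card G → r = s) ∨
    ∀ r : ℕ, r.Prime → r ∣ Nat.card G → r ∈ π

theorem small_cases (h : Small π G) :
    Cfsg.IsEPiGroup π G ∧ Cfsg.IsCPiGroup π G ∧ Cfsg.IsDPiGroup π G := by
  -- the maximal `π`-subgroups form one conjugacy class consisting of Hall subgroups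
  obtain ⟨M₀, hM₀, hmax⟩ : ∃ M₀ : Subgroup G, Cfsg.IsPiHall π M₀ ∧
      ∀ H : Subgroup G, (∀ p : ℕ, p.Prime → p ∣ Nat.card H → p ∈ π) →
        ∃ g : G, H ≤ M₀.map (MulAut.conj g).toMonoidHom := by
    rcases h with h | h
    · by_cases hex : ∃ p, p.Prime ∧ p ∈ π ∧ p ∣ Nat.card G
      · obtain ⟨p, hp, hpπ, hpG⟩ := hex
        haveI := Fact.mk hp
        obtain ⟨P⟩ : Nonempty (Sylow p G) := inferInstance
        refine ⟨P, ⟨fun r hr hd => ?_, fun r hr hrπ hd => ?_⟩, fun H hH => ?_⟩
        · obtain ⟨k, hk⟩ := IsPGroup.iff_card.mp P.2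
          rwa [(Nat.prime_dvd_prime_iff_eq hr hp).mp (hr.dvd_of_dvd_pow (hk ▸ hd))]
        · obtain rfl := h r p hr hp hrπ hpπ (hd.trans (Subgroup.index_dvd_card _)) hpG
          exact P.not_dvd_index hd
        · have hHp : IsPGroup p H := IsPGroup.of_card (n := _) (Nat.eq_prime_pow_of_unique_prime_dvd
            Nat.card_pos.ne' fun {r} hr hd => h r p hr hp (hH r hr hd) hpπ
              (hd.trans (Subgroup.card_subgroup_dvd_card H)) hpG)
          obtain ⟨Q, hQ⟩ := hHp.exists_le_sylow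
          obtain ⟨g, rfl⟩ := MulAction.exists_smul_eq G P Q
          exact ⟨g, hQ⟩
      · push Not at hex
        refine ⟨⊥, ⟨fun r hr hd => absurd hd (by simp [hr.ne_one]), fun r hr hrπ hd =>
          hex r hr hrπ (hd.trans (Subgroup.index_dvd_card _))⟩, fun H hH => ⟨1, ?_⟩⟩
        rw [Subgroup.map_bot, le_bot_iff]
        refine Subgroup.eq_bot_of_card_eq _ ?_
        by_contra hne
        obtain ⟨r, hr, hd⟩ := Nat.exists_prime_and_dvd hne
        exact hex r hr (hH r hr hd) (hd.trans (Subgroup.card_subgroup_dvd_card H))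
    · refine ⟨⊤, ⟨fun r hr hd => h r hr (by rwa [Subgroup.card_top] at hd),
        fun r hr _ hd => absurd hd (by simp [hr.ne_one])⟩, fun H _ => ⟨1, ?_⟩⟩
      rw [Subgroup.map_top_of_surjective _ (MulEquiv.surjective _)]
      exact le_top
  have hconjπ : ∀ g : G, ∀ p : ℕ, p.Prime → p ∣ Nat.card (M₀.map (MulAut.conj g).toMonoidHom) → p ∈ π := by
    intro g p hp hd
    rw [Subgroup.card_map_of_injective (MulEquiv.injective _)] at hd
    exact hM₀.1 p hp hd
  have hmaxeq : ∀ H : Subgroup G, Maximal (Cfsg.IsPiSubgroup π) H →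
      ∃ g : G, H = M₀.map (MulAut.conj g).toMonoidHom := by
    intro H hH
    obtain ⟨g, hg⟩ := hmax H hH.prop
    exact ⟨g, le_antisymm hg (hH.le_of_ge (hconjπ g) hg)⟩
  have hcomp : ∀ g g' : G, (M₀.map (MulAut.conj g).toMonoidHom).map (MulAut.conj (g' * g⁻¹)).toMonoidHom =
      M₀.map (MulAut.conj g').toMonoidHom := by
    intro g g'
    rw [Subgroup.map_map]
    congr 1
    ext x
    simp [mul_assoc]
  refine ⟨⟨M₀, hM₀⟩, ⟨⟨M₀, hM₀⟩, fun H K hH hK => ?_⟩, fun H K hH hK => ?_⟩
  · obtain ⟨g, hg⟩ := hmax H hH.1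
    obtain ⟨g', hg'⟩ := hmax K hK.1
    have e1 : H = M₀.map (MulAut.conj g).toMonoidHom :=
      Solvable.eq_of_le_of_isPiNum hH hg (hconjπ g)
    have e2 : K = M₀.map (MulAut.conj g').toMonoidHom :=
      Solvable.eq_of_le_of_isPiNum hK hg' (hconjπ g')
    exact ⟨g' * g⁻¹, by rw [e1, e2, hcomp]⟩
  · obtain ⟨g, rfl⟩ := hmaxeq H hH
    obtain ⟨g', rfl⟩ := hmaxeq K hK
    exact ⟨g' * g⁻¹, (hcomp g g').symm⟩

end trivial

variable {α : Type u} [Fintype α] [DecidableEq α]

theorem index_stabilizer_finset (S : Finset α) :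
    (MulAction.stabilizer (Perm α) ({S} : Finset (Finset α))).index = (Fintype.card α).choose S.card := by
  have he : MulAction.stabilizer (Perm α) ({S} : Finset (Finset α)) = MulAction.stabilizer (Perm α) S := by
    ext g
    simp [MulAction.mem_stabilizer_iff, Finset.smul_finset_singleton]
  rw [he, MulAction.index_stabilizer]
  have horb : MulAction.orbit (Perm α) S = ((Finset.powersetCard S.card Finset.univ : Finset (Finset α)) : Set (Finset α)) := by
    ext T
    rw [Finset.mem_coe, Finset.mem_powersetCard]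
    constructor
    · rintro ⟨g, rfl⟩
      exact ⟨Finset.subset_univ _, Finset.card_smul_finset _ _⟩
    · rintro ⟨-, hT⟩
      obtain ⟨g, hg⟩ : ∃ g : Perm α, g • S = T := by
        let e : {x // x ∈ S} ≃ {x // x ∈ T} := Fintype.equivOfCardEq (by simp [hT])
        refine ⟨e.extendSubtype, Finset.eq_of_subset_of_card_le ?_ (by rw [Finset.card_smul_finset, hT])⟩
        intro y hy
        obtain ⟨x, hx, rfl⟩ := Finset.mem_smul_finset.1 hy
        rw [Equiv.Perm.smul_def, Equiv.extendSubtype_apply_of_mem _ x hx]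
        exact (e ⟨x, hx⟩).2
      exact ⟨g, hg⟩
  rw [horb, Set.ncard_coe_finset, Finset.card_powersetCard, Finset.card_univ]

theorem exists_smul_eq_of_card {S T : Finset α} (h : S.card = T.card) : ∃ g : Perm α, g • S = T := by
  let e : {x // x ∈ S} ≃ {x // x ∈ T} := Fintype.equivOfCardEq (by simp [h])
  refine ⟨e.extendSubtype, Finset.eq_of_subset_of_card_le ?_ (by rw [Finset.card_smul_finset, h])⟩
  intro y hy
  obtain ⟨x, hx, rfl⟩ := Finset.mem_smul_finset.1 hy
  rw [Equiv.Perm.smul_def, Equiv.extendSubtype_apply_of_mem _ x hx]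
  exact (e ⟨x, hx⟩).2

theorem smul_compl_finset (g : Perm α) (B : Finset α) : g • Bᶜ = (g • B)ᶜ := by
  refine Finset.coe_injective ?_
  rw [Finset.coe_smul_finset, Finset.coe_compl, Finset.coe_compl, Finset.coe_smul_finset, Set.smul_set_compl]

/-- The index of the stabiliser of an object. -/
theorem obj_index {𝓕 : Finset (Finset α)} (h : Obj π α 𝓕) :
    ((Fintype.card α).Prime ∧ (∀ r : ℕ, r.Prime → r ≤ Fintype.card α → (r ∈ π ↔ r < Fintype.card α)) ∧
        (MulAction.stabilizer (Perm α) 𝓕).index = Fintype.card α) ∨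
      ((∀ r : ℕ, r.Prime → r ≤ Fintype.card α → (r ∈ π ↔ (r = 2 ∨ r = 3))) ∧
        (Fintype.card α = 7 ∨ Fintype.card α = 8) ∧ (MulAction.stabilizer (Perm α) 𝓕).index = 35) := by
  rcases h with ⟨hp, hc, x, rfl⟩ | ⟨hc, ⟨h7, S, hS, rfl⟩ | ⟨h8, B, hB, rfl⟩⟩
  · exact Or.inl ⟨hp, hc, by rw [index_stabilizer_finset, Finset.card_singleton, Nat.choose_one_right]⟩
  · exact Or.inr ⟨hc, Or.inl h7, by rw [index_stabilizer_finset, hS, h7]; rfl⟩
  · refine Or.inr ⟨hc, Or.inr h8, ?_⟩
    have hne : B ≠ Bᶜ := fun e => by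
      have hne' : B.Nonempty := Finset.card_pos.1 (by omega)
      obtain ⟨x, hx⟩ := hne'
      exact (Finset.mem_compl.1 (e ▸ hx)) hx
    have hle : MulAction.stabilizer (Perm α) ({B} : Finset (Finset α)) ≤
        MulAction.stabilizer (Perm α) ({B, Bᶜ} : Finset (Finset α)) := by
      intro g hg
      rw [MulAction.mem_stabilizer_iff, Finset.smul_finset_singleton, Finset.singleton_inj] at hg
      rw [MulAction.mem_stabilizer_iff, Finset.smul_finset_insert, Finset.smul_finset_singleton,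
        smul_compl_finset, hg]
    have hrel : (MulAction.stabilizer (Perm α) ({B} : Finset (Finset α))).relIndex
        (MulAction.stabilizer (Perm α) ({B, Bᶜ} : Finset (Finset α))) = 2 := by
      have hkey : (MulAction.stabilizer (Perm α) ({B} : Finset (Finset α))).subgroupOf
          (MulAction.stabilizer (Perm α) ({B, Bᶜ} : Finset (Finset α))) =
          MulAction.stabilizer ↥(MulAction.stabilizer (Perm α) ({B, Bᶜ} : Finset (Finset α))) B := by
        ext g
        simp [Subgroup.mem_subgroupOf, MulAction.mem_stabilizer_iff, Finset.smul_finset_singleton, Subgroup.smul_def]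
      rw [Subgroup.relIndex, hkey, MulAction.index_stabilizer]
      have horb : MulAction.orbit ↥(MulAction.stabilizer (Perm α) ({B, Bᶜ} : Finset (Finset α))) B = {B, Bᶜ} := by
        ext T
        constructor
        · rintro ⟨g, rfl⟩
          have hg := g.2
          rw [MulAction.mem_stabilizer_iff] at hg
          have hmem : (g : Perm α) • B ∈ ({B, Bᶜ} : Finset (Finset α)) := by
            have h' := Finset.smul_mem_smul_finset (a := (g : Perm α)) (Finset.mem_insert_self B {Bᶜ})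
            rwa [hg] at h' 
          simpa [Subgroup.smul_def] using hmem
        · rintro (rfl | rfl)
          · exact MulAction.mem_orbit_self _
          · obtain ⟨g, hg⟩ := exists_smul_eq_of_card (S := B) (T := Bᶜ) (by rw [Finset.card_compl]; omega)
            refine ⟨⟨g, ?_⟩, hg⟩
            rw [MulAction.mem_stabilizer_iff, Finset.smul_finset_insert, Finset.smul_finset_singleton,
              smul_compl_finset, hg, compl_compl, Finset.pair_comm]
      rw [horb, Set.ncard_pair hne]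
    have h2 := Subgroup.relIndex_mul_index hle
    rw [hrel, index_stabilizer_finset, hB, h8] at h2
    have : Nat.choose 8 4 = 70 := rfl
    omega

theorem prime_le_of_dvd_card {p : ℕ} (hp : p.Prime) {H : Subgroup (Perm α)} (hd : p ∣ Nat.card H) :
    p ≤ Fintype.card α := by
  have := hd.trans (Subgroup.card_subgroup_dvd_card H)
  rw [Nat.card_perm, Nat.card_eq_fintype_card] at this
  exact (Nat.Prime.dvd_factorial hp).1 this

theorem exists_hall_perm_of_obj {𝓕 : Finset (Finset α)} (h : Obj π α 𝓕) :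
    Cfsg.IsPiHall π (MulAction.stabilizer (Perm α) 𝓕) := by
  have hci := (MulAction.stabilizer (Perm α) 𝓕).card_mul_index
  rw [Nat.card_perm, Nat.card_eq_fintype_card (α := α)] at hci
  rcases obj_index h with ⟨hp, hc, hi⟩ | ⟨hc, hn, hi⟩
  · rw [hi] at hci
    refine ⟨fun p hpp hd => (hc p hpp (prime_le_of_dvd_card hpp hd)).2 ?_, fun p hpp hpπ hd => ?_⟩
    · refine lt_of_le_of_ne (prime_le_of_dvd_card hpp hd) ?_
      rintro rfl
      obtain ⟨m, hm⟩ : ∃ m, Fintype.card α = m + 1 := ⟨Fintype.card α - 1, by have := hp.two_le; omega⟩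
      have h2 : Fintype.card α * Fintype.card α ∣ (Fintype.card α).factorial := hci ▸ Nat.mul_dvd_mul_right hd _
      rw [hm, Nat.factorial_succ, Nat.mul_dvd_mul_iff_left (by omega), ← hm] at h2
      have := (Nat.Prime.dvd_factorial hp).1 h2
      omega
    · rw [hi, Nat.prime_dvd_prime_iff_eq hpp hp] at hd
      exact absurd ((hc p hpp hd.le).1 hpπ) (by omega)
  · rw [hi] at hci
    refine ⟨fun p hpp hd => (hc p hpp (prime_le_of_dvd_card hpp hd)).2 ?_, fun p hpp hpπ hd => ?_⟩
    · have hle := prime_le_of_dvd_card hpp hd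
      have := hpp.two_le
      have h35 : p * 35 ∣ (Fintype.card α).factorial := hci ▸ Nat.mul_dvd_mul_right hd _
      rcases hn with hn | hn <;> rw [hn] at h35 hle <;> interval_cases p <;> revert h35 hpp <;> decide
    · rw [hi] at hd
      have h57 : p = 5 ∨ p = 7 := by
        rcases (Nat.Prime.dvd_mul hpp).1 (show p ∣ 5 * 7 from hd) with h | h
        · exact Or.inl ((Nat.prime_dvd_prime_iff_eq hpp (by norm_num)).1 h)
        · exact Or.inr ((Nat.prime_dvd_prime_iff_eq hpp (by norm_num)).1 h)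
      have := (hc p hpp (by omega)).1 hpπ
      omega

theorem exists_obj (h5 : 5 ≤ Fintype.card α) (hN : Num π (Fintype.card α)) : ∃ 𝓕, Obj π α 𝓕 := by
  obtain ⟨S, -, hS⟩ := Finset.exists_subset_card_eq (s := (Finset.univ : Finset α)) (n := 3)
    (by rw [Finset.card_univ]; omega)
  obtain ⟨B, -, hB⟩ := Finset.exists_subset_card_eq (s := (Finset.univ : Finset α)) (n := 4)
    (by rw [Finset.card_univ]; omega)
  obtain ⟨x⟩ : Nonempty α := Fintype.card_pos_iff.1 (by omega)
  rcases hN with ⟨hp, hc⟩ | ⟨h7 | h8, hc⟩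
  · exact ⟨_, Or.inl ⟨hp, hc, x, rfl⟩⟩
  · exact ⟨_, Or.inr ⟨hc, Or.inl ⟨h7, S, hS, rfl⟩⟩⟩
  · exact ⟨_, Or.inr ⟨hc, Or.inr ⟨h8, B, hB, rfl⟩⟩⟩

theorem exists_smul_obj {𝓕 𝓕' : Finset (Finset α)} (h : Obj π α 𝓕) (h' : Obj π α 𝓕') :
    ∃ g : Perm α, g • 𝓕 = 𝓕' := by
  rcases h with ⟨hp, hc, x, rfl⟩ | ⟨hc, h⟩ <;> rcases h' with ⟨hp', hc', x', rfl⟩ | ⟨hc', h'⟩
  · exact ⟨swap x x', by simp [Finset.smul_finset_singleton]⟩
  · exfalso
    rcases h' with ⟨h7, -⟩ | ⟨h8, -⟩
    · have := (hc' 5 (by norm_num) (by omega)).1 ((hc 5 (by norm_num) (by omega)).2 (by omega))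
      omega
    · rw [h8] at hp; exact absurd hp (by decide)
  · exfalso
    rcases h with ⟨h7, -⟩ | ⟨h8, -⟩
    · have := (hc 5 (by norm_num) (by omega)).1 ((hc' 5 (by norm_num) (by omega)).2 (by omega))
      omega
    · rw [h8] at hp'; exact absurd hp' (by decide)
  · rcases h with ⟨h7, S, hS, rfl⟩ | ⟨h8, B, hB, rfl⟩ <;> rcases h' with ⟨h7', S', hS', rfl⟩ | ⟨h8', B', hB', rfl⟩
    · obtain ⟨g, hg⟩ := exists_smul_eq_of_card (S := S) (T := S') (by omega)
      exact ⟨g, by rw [Finset.smul_finset_singleton, hg]⟩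
    · omega
    · omega
    · obtain ⟨g, hg⟩ := exists_smul_eq_of_card (S := B) (T := B') (by omega)
      exact ⟨g, by rw [Finset.smul_finset_insert, Finset.smul_finset_singleton, smul_compl_finset, hg]⟩

theorem hallA_eq {M : Subgroup (Perm α)} (hM : HallA π M) {𝓕 : Finset (Finset α)} (hobj : Obj π α 𝓕)
    (hle : M ≤ MulAction.stabilizer (Perm α) 𝓕) :
    M = MulAction.stabilizer (Perm α) 𝓕 ⊓ alternatingGroup α :=
  hallOf_eq_of_le hM (le_inf hle hM.1) inf_le_right fun p hp hd =>
    (exists_hall_perm_of_obj hobj).1 p hp (hd.trans (Subgroup.card_dvd_of_le inf_le_left))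

theorem hallA_inf {H : Subgroup (Perm α)} (hH : Cfsg.IsPiHall π H) : HallA π (H ⊓ alternatingGroup α) :=
  Solvable.isPiHall_inf_normal hH

/-- `Perm α` and `alternatingGroup α` only differ by `2`, which is irrelevant below `5`. -/
theorem small_of_not_mixed (h : ¬ Mixed π (Fintype.card α)) :
    Small π (Perm α) ∧ Small π (alternatingGroup α) := by
  have hS : ∀ p : ℕ, p.Prime → p ∣ Nat.card (Perm α) → p ≤ Fintype.card α := fun p hp hd => by
    rw [Nat.card_perm, Nat.card_eq_fintype_card] at hd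
    exact (Nat.Prime.dvd_factorial hp).1 hd
  have hA : ∀ p : ℕ, p.Prime → p ∣ Nat.card (alternatingGroup α) → p ≤ Fintype.card α := fun p hp hd =>
    hS p hp (hd.trans (Subgroup.card_subgroup_dvd_card _))
  have key : ∀ (G : Type u), (∀ p : ℕ, p.Prime → p ∣ Nat.card G → p ≤ Fintype.card α) → Small π G := by
    intro G hG
    by_cases h2 : ∀ r s : ℕ, r.Prime → s.Prime → r ∈ π → s ∈ π → r ∣ Nat.card G → s ∣ Nat.card G → r = s
    · exact Or.inl h2
    · push Not at h2
      obtain ⟨r, s, hr, hs, hrπ, hsπ, hrd, hsd, hne⟩ := h2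
      refine Or.inr fun t ht htd => ?_
      by_contra htπ
      exact h ⟨⟨r, s, hr, hs, hne, hrπ, hsπ, hG r hr hrd, hG s hs hsd⟩, t, ht, hG t ht htd, htπ⟩
  exact ⟨key _ hS, key _ hA⟩

theorem prime_dvd_alt {p : ℕ} (hp : p.Prime) (h5 : 5 ≤ Fintype.card α) (hpn : p ≤ Fintype.card α) :
    p ∣ Nat.card (alternatingGroup α) := by
  have hd : 2 * p ∣ 2 * Nat.card (alternatingGroup α) := by
    rw [two_mul_card_alt (by omega)]
    rcases eq_or_ne p 2 with rfl | hp2
    · exact (show 2 * 2 ∣ Nat.factorial 4 by decide).trans (Nat.factorial_dvd_factorial (by omega))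
    · exact ((Nat.coprime_primes Nat.prime_two hp).2 (Ne.symm hp2)).mul_dvd_of_dvd_of_dvd
        ((Nat.Prime.dvd_factorial Nat.prime_two).2 (by omega)) ((Nat.Prime.dvd_factorial hp).2 hpn)
  exact (Nat.mul_dvd_mul_iff_left two_pos).1 hd

/-- Subgroups of `alternatingGroup α` seen in `Perm α`. -/
theorem hallA_map {M : Subgroup (alternatingGroup α)} (hM : Cfsg.IsPiHall π M) :
    HallA π (M.map (alternatingGroup α).subtype) :=
  Solvable.isPiHallOf_map_subtype hM

/-- A Hall subgroup of `alternatingGroup α` is cut out by one of the symmetric group. -/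
theorem classify_alt (hmix : Mixed π (Fintype.card α)) {M : Subgroup (alternatingGroup α)}
    (hM : Cfsg.IsPiHall π M) :
    ∃ 𝓕, Obj π α 𝓕 ∧ M = (MulAction.stabilizer (Perm α) 𝓕).subgroupOf (alternatingGroup α) := by
  obtain ⟨𝓕, hobj, hle⟩ := classify (hallA_map hM) hmix
  refine ⟨𝓕, hobj, ?_⟩
  rw [← Subgroup.inf_subgroupOf_right, ← hallA_eq (hallA_map hM) hobj hle, Subgroup.subgroupOf,
    Subgroup.comap_map_eq_self_of_injective (alternatingGroup α).subtype_injective]

theorem epi_alt_of_perm (h : Cfsg.IsEPiGroup π (Perm α)) : Cfsg.IsEPiGroup π (alternatingGroup α) := by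
  obtain ⟨H, hH⟩ := h
  exact ⟨_, Solvable.isPiHall_subgroupOf (hallA_inf hH)⟩

theorem num_of_epi_alt (hmix : Mixed π (Fintype.card α)) (h : Cfsg.IsEPiGroup π (alternatingGroup α)) :
    Num π (Fintype.card α) := by
  obtain ⟨M, hM⟩ := h
  obtain ⟨𝓕, hobj, -⟩ := classify (hallA_map hM) hmix
  exact hobj.num

theorem epi_perm_of_num (hmix : Mixed π (Fintype.card α)) (h : Num π (Fintype.card α)) :
    Cfsg.IsEPiGroup π (Perm α) := by
  obtain ⟨𝓕, h𝓕⟩ := exists_obj hmix.five_le h
  exact ⟨_, exists_hall_perm_of_obj h𝓕⟩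

theorem epi_perm_iff : Cfsg.IsEPiGroup π (Perm α) ↔ Cfsg.IsEPiGroup π (alternatingGroup α) := by
  refine ⟨epi_alt_of_perm, fun h => ?_⟩
  by_cases hmix : Mixed π (Fintype.card α)
  · exact epi_perm_of_num hmix (num_of_epi_alt hmix h)
  · exact (small_cases (small_of_not_mixed hmix).1).1

theorem exists_odd_mem {H : Subgroup (Perm α)} (hH : Cfsg.IsPiHall π H) (h2 : 2 ∈ π)
    (hn : 2 ≤ Fintype.card α) : ∃ t ∈ H, t ∉ alternatingGroup α := by
  by_contra hcon
  push Not at hcon
  haveI : Nontrivial α := Fintype.one_lt_card_iff_nontrivial.1 hn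
  refine hH.2 2 Nat.prime_two h2 ?_
  rw [← alternatingGroup.index_eq_two (α := α)]
  exact Subgroup.index_dvd_of_le hcon

theorem cpi_alt (h : Cfsg.IsEPiGroup π (alternatingGroup α)) : Cfsg.IsCPiGroup π (alternatingGroup α) := by
  by_cases hmix : Mixed π (Fintype.card α)
  · refine ⟨h, fun H K hH hK => ?_⟩
    obtain ⟨𝓕, h𝓕, rfl⟩ := classify_alt hmix hH
    obtain ⟨𝓕', h𝓕', rfl⟩ := classify_alt hmix hK
    obtain ⟨g, hg⟩ := exists_smul_obj h𝓕 h𝓕'
    -- make the conjugating element even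
    obtain ⟨g', hg', hg'A⟩ : ∃ g' : Perm α, g' • 𝓕 = 𝓕' ∧ g' ∈ alternatingGroup α := by
      by_cases hgA : g ∈ alternatingGroup α
      · exact ⟨g, hg, hgA⟩
      · obtain ⟨t, ht, htA⟩ := exists_odd_mem (exists_hall_perm_of_obj h𝓕) (h𝓕.num.two_mem hmix)
          (by have := hmix.five_le; omega)
        refine ⟨g * t, by rw [mul_smul, MulAction.mem_stabilizer_iff.1 ht, hg], ?_⟩
        haveI : Nontrivial α := Fintype.one_lt_card_iff_nontrivial.1 (by have := hmix.five_le; omega)
        exact (Subgroup.mul_mem_iff_of_index_two (alternatingGroup.index_eq_two (α := α))).2 (iff_of_false hgA htA)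
    refine ⟨⟨g', hg'A⟩, ?_⟩
    rw [← hg', MulAction.stabilizer_smul_eq_stabilizer_map_conj]
    ext x
    simp only [Subgroup.mem_subgroupOf, Subgroup.mem_map_equiv, MulAut.conj_symm_apply,
      Subgroup.coe_mul, Subgroup.coe_inv]
  · exact (small_cases (small_of_not_mixed hmix).2).2.1

/-- Hall subgroups of `Perm α` with the same even part are conjugate. -/
theorem conj_of_inf_eq (h2 : 2 ∈ π) {H K : Subgroup (Perm α)} (hH : Cfsg.IsPiHall π H)
    (hK : Cfsg.IsPiHall π K) (he : H ⊓ alternatingGroup α = K ⊓ alternatingGroup α) :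
    ∃ g : Perm α, K = H.map (MulAut.conj g).toMonoidHom := by
  rcases subsingleton_or_nontrivial α with hs | hs
  · exact ⟨1, Subsingleton.elim _ _⟩
  set A := alternatingGroup α
  set M := H ⊓ A with hMdef
  have hnorm : ∀ L : Subgroup (Perm α), L ≤ Subgroup.normalizer ((L ⊓ A : Subgroup (Perm α)) : Set (Perm α)) := by
    intro L g hg
    rw [Subgroup.mem_normalizer_iff]
    intro h
    simp only [Subgroup.mem_inf]
    constructor
    · rintro ⟨h1, h2⟩
      exact ⟨L.mul_mem (L.mul_mem hg h1) (L.inv_mem hg), (inferInstance : A.Normal).conj_mem h h2 g⟩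
    · rintro ⟨h1, h2⟩
      have h1' := L.mul_mem (L.mul_mem (L.inv_mem hg) h1) hg
      have h2' := (inferInstance : A.Normal).conj_mem _ h2 g⁻¹
      simp only [inv_inv] at h2'
      rw [show g⁻¹ * (g * h * g⁻¹) * g = h by group] at h1' h2'
      exact ⟨h1', h2'⟩
  set N := Subgroup.normalizer ((M : Subgroup (Perm α)) : Set (Perm α))
  have hHN : H ≤ N := hnorm H
  have hKN : K ≤ N := by
    have h := hnorm K
    rwa [← he] at h
  have hgen : ∀ L : Subgroup (Perm α), L ⊓ A = M → ∀ P : Sylow 2 L,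
      Cfsg.IsPiHall π L → L = M ⊔ (P : Subgroup L).map L.subtype := by
    intro L hLA P hL
    refine le_antisymm ?_ (sup_le (hLA ▸ inf_le_left) (Subgroup.map_subtype_le _))
    obtain ⟨t, htL, htA⟩ := exists_odd_mem hL h2 (Fintype.one_lt_card_iff_nontrivial.2 hs)
    -- some element of `P` is odd
    obtain ⟨s, hs', hsA⟩ : ∃ s ∈ (P : Subgroup L).map L.subtype, s ∉ A := by
      by_contra hcon
      push Not at hcon
      have hle : (P : Subgroup L) ≤ A.subgroupOf L := fun x hx => hcon _ ⟨x, hx, rfl⟩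
      have hd := Subgroup.index_dvd_of_le hle
      have h2d : (A.subgroupOf L).index = 2 := by
        rcases (Nat.dvd_prime Nat.prime_two).1
          (alternatingGroup.index_eq_two (α := α) ▸ Subgroup.relIndex_dvd_index_of_normal A L) with h | h
        · exact absurd (Subgroup.relIndex_eq_one.1 h htL) htA
        · exact h
      rw [h2d] at hd
      exact P.not_dvd_index hd
    intro x hx
    by_cases hxA : x ∈ A
    · exact Subgroup.mem_sup_left (hLA ▸ ⟨hx, hxA⟩)
    · have hxs : x * s⁻¹ ∈ A := (Subgroup.mul_mem_iff_of_index_two (alternatingGroup.index_eq_two (α := α))).2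
        (iff_of_false hxA (mt A.inv_mem_iff.1 hsA))
      have : x * s⁻¹ ∈ M := hLA ▸ ⟨L.mul_mem hx (L.inv_mem (Subgroup.map_subtype_le _ hs')), hxs⟩
      have h' := Subgroup.mul_mem_sup this hs'
      rwa [inv_mul_cancel_right] at h'
  haveI : Fact (Nat.Prime 2) := ⟨Nat.prime_two⟩
  obtain ⟨P⟩ : Nonempty (Sylow 2 H) := inferInstance
  obtain ⟨Q⟩ : Nonempty (Sylow 2 K) := inferInstance
  have hsyl : ∀ (L : Subgroup (Perm α)) (hL : L ≤ N), Cfsg.IsPiHall π L → ∀ P : Sylow 2 L,
      ∃ P' : Sylow 2 N, ((P' : Subgroup N).map N.subtype) = (P : Subgroup L).map L.subtype := by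
    intro L hL hLh P
    have hnd : ¬ 2 ∣ (((P : Subgroup L).map L.subtype).subgroupOf N).index := by
      intro hd
      have hd' : 2 ∣ ((P : Subgroup L).map L.subtype).index :=
        hd.trans (Subgroup.relIndex_dvd_index_of_le ((Subgroup.map_subtype_le _).trans hL))
      rw [← Subgroup.relIndex_mul_index (Subgroup.map_subtype_le (P : Subgroup L))] at hd'
      rcases Nat.prime_two.dvd_mul.1 hd' with h | h
      · rw [Subgroup.relIndex, Subgroup.subgroupOf,
          Subgroup.comap_map_eq_self_of_injective L.subtype_injective] at h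
        exact P.not_dvd_index h
      · exact hLh.2 2 Nat.prime_two h2 h
    have hpg : IsPGroup 2 (((P : Subgroup L).map L.subtype).subgroupOf N) :=
      IsPGroup.of_equiv (P.2.map L.subtype) (Subgroup.subgroupOfEquivOfLe ((Subgroup.map_subtype_le _).trans hL)).symm
    refine ⟨hpg.toSylow hnd, ?_⟩
    show (((P : Subgroup L).map L.subtype).subgroupOf N).map N.subtype = _
    rw [Subgroup.map_subgroupOf_eq_of_le ((Subgroup.map_subtype_le _).trans hL)]
  obtain ⟨P', hP'⟩ := hsyl H hHN hH P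
  obtain ⟨Q', hQ'⟩ := hsyl K hKN hK Q
  obtain ⟨g, hg⟩ := MulAction.exists_smul_eq N P' Q'
  refine ⟨g, ?_⟩
  rw [hgen H rfl P hH, hgen K he.symm Q hK, Subgroup.map_sup, ← hP', ← hQ', ← hg]
  congr 1
  · ext x
    rw [Subgroup.mem_map_equiv, MulAut.conj_symm_apply]
    exact ((Subgroup.mem_normalizer_iff'' (g := (g : Perm α))).1 g.2 x)
  · ext x
    simp only [Sylow.coe_subgroup_smul, Subgroup.mem_map]
    constructor
    · rintro ⟨z, hz, rfl⟩
      rw [Subgroup.mem_pointwise_smul_iff_inv_smul_mem] at hz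
      refine ⟨((g⁻¹ * z * g : N) : Perm α), ⟨g⁻¹ * z * g, by simpa using hz, rfl⟩, ?_⟩
      simp [mul_assoc]
    · rintro ⟨_, ⟨w, hw, rfl⟩, rfl⟩
      refine ⟨g * w * g⁻¹, ?_, by simp⟩
      rw [Subgroup.mem_pointwise_smul_iff_inv_smul_mem]
      simpa [mul_assoc] using hw

theorem cpi_perm (h : Cfsg.IsEPiGroup π (Perm α)) : Cfsg.IsCPiGroup π (Perm α) := by
  by_cases hmix : Mixed π (Fintype.card α)
  · refine ⟨h, fun H K hH hK => ?_⟩
    have h2 : 2 ∈ π := (num_of_epi_alt hmix (epi_alt_of_perm h)).two_mem hmix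
    obtain ⟨a, ha⟩ := (cpi_alt (epi_alt_of_perm h)).2 _ _
      (Solvable.isPiHall_subgroupOf (hallA_inf hH)) (Solvable.isPiHall_subgroupOf (hallA_inf hK))
    have hH' : Cfsg.IsPiHall π (H.map (MulAut.conj (a : Perm α)).toMonoidHom) :=
      Solvable.isPiHall_map hH (MulEquiv.surjective _)
    obtain ⟨g, hg⟩ := conj_of_inf_eq h2 hH' hK (by
      have := congrArg (Subgroup.map (alternatingGroup α).subtype) ha
      rw [Subgroup.map_subgroupOf_eq_of_le inf_le_right] at this
      rw [this, Subgroup.map_map]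
      ext x
      simp only [Subgroup.mem_inf, Subgroup.mem_map,
        Subgroup.mem_subgroupOf, MonoidHom.comp_apply, MulEquiv.coe_toMonoidHom, MulAut.conj_apply]
      constructor
      · rintro ⟨⟨z, hz, rfl⟩, hxA⟩
        refine ⟨⟨(a : Perm α)⁻¹ * ((a : Perm α) * z * (a : Perm α)⁻¹) * a, (alternatingGroup α).mul_mem
          ((alternatingGroup α).mul_mem ((alternatingGroup α).inv_mem a.2) hxA) a.2⟩, ⟨by simpa [mul_assoc] using hz, ?_⟩, ?_⟩
        · exact (alternatingGroup α).mul_mem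
            ((alternatingGroup α).mul_mem ((alternatingGroup α).inv_mem a.2) hxA) a.2
        · simp [mul_assoc]
      · rintro ⟨y, ⟨hyH, -⟩, rfl⟩
        exact ⟨⟨_, hyH, by simp [mul_assoc]⟩, (alternatingGroup α).mul_mem
          ((alternatingGroup α).mul_mem a.2 y.2) ((alternatingGroup α).inv_mem a.2)⟩)
    refine ⟨g * a, ?_⟩
    rw [hg, Subgroup.map_map]
    congr 1
  · exact (small_cases (small_of_not_mixed hmix).1).2.1

/-- Every Hall subgroup of `A_n` comes from one of `S_n`. -/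
theorem extend_hall {M : Subgroup (alternatingGroup α)} (hM : Cfsg.IsPiHall π M) :
    ∃ M₀ : Subgroup (Perm α), Cfsg.IsPiHall π M₀ ∧ M = M₀.subgroupOf (alternatingGroup α) := by
  obtain ⟨H, hH⟩ := epi_perm_iff.2 ⟨M, hM⟩
  obtain ⟨a, ha⟩ := (cpi_alt ⟨M, hM⟩).2 _ M (Solvable.isPiHall_subgroupOf (hallA_inf hH)) hM
  refine ⟨H.map (MulAut.conj (a : Perm α)).toMonoidHom, Solvable.isPiHall_map hH (MulEquiv.surjective _), ?_⟩
  rw [ha]
  ext x
  simp only [Subgroup.mem_subgroupOf, Subgroup.mem_map_equiv, MulAut.conj_symm_apply, Subgroup.mem_inf,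
    Subgroup.coe_mul, Subgroup.coe_inv]
  exact ⟨fun h => h.1, fun h => ⟨h, (alternatingGroup α).mul_mem
    ((alternatingGroup α).mul_mem ((alternatingGroup α).inv_mem a.2) x.2) a.2⟩⟩

end Cfsg.Agent.PermHall
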