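import Cfsg.Agent.Lib.PermHall.Choose
import Mathlib.Combinatorics.Enumerative.Bell

/-!
# Numerical side of the classification of Hall subgroups of symmetric groups
-/

set_option autoImplicit false

namespace Cfsg.Agent.PermHall

variable (π : Set ℕ)

/-- The numerical condition on `n` and `π`. -/
def Num (n : ℕ) : Prop :=
  (n.Prime ∧ ∀ r : ℕ, r.Prime → r ≤ n → (r ∈ π ↔ r < n)) ∨
    ((n = 7 ∨ n = 8) ∧ ∀ r : ℕ, r.Prime → r ≤ n → (r ∈ π ↔ (r = 2 ∨ r = 3)))

/-- At least two primes of `π` are `≤ n`, but not all primes `≤ n` are in `π`. -/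
def Mixed (n : ℕ) : Prop :=
  (∃ r s : ℕ, r.Prime ∧ s.Prime ∧ r ≠ s ∧ r ∈ π ∧ s ∈ π ∧ r ≤ n ∧ s ≤ n) ∧
    ∃ r : ℕ, r.Prime ∧ r ≤ n ∧ r ∉ π

/-- All primes `≤ n` are in `π`. -/
def Full (n : ℕ) : Prop := ∀ r : ℕ, r.Prime → r ≤ n → r ∈ π

/-- No prime of `π` divides `Z`. -/
def CopPi (Z : ℕ) : Prop := ∀ p : ℕ, p.Prime → p ∈ π → ¬ p ∣ Z

variable {π}

theorem Mixed.five_le {n : ℕ} (h : Mixed π n) : 5 ≤ n := by
  obtain ⟨⟨r, s, hr, hs, hne, hrπ, hsπ, hrn, hsn⟩, t, ht, htn, htπ⟩ := h
  by_contra hlt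
  have key : ∀ x : ℕ, x.Prime → x ≤ n → x = 2 ∨ x = 3 := fun x hx hxn => by
    have := hx.two_le
    rcases Nat.lt_or_ge x 4 with h | h
    · omega
    · have hx4 : x = 4 := by omega
      subst hx4
      exact absurd hx (by decide)
  rcases key r hr hrn with rfl | rfl <;> rcases key s hs hsn with rfl | rfl <;>
    rcases key t ht htn with rfl | rfl <;> simp_all

theorem Num.two_mem {n : ℕ} (hN : Num π n) (h : Mixed π n) : 2 ∈ π := by
  have := h.five_le
  rcases hN with ⟨-, hc⟩ | ⟨-, hc⟩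
  · exact (hc 2 Nat.prime_two (by omega)).2 (by omega)
  · exact (hc 2 Nat.prime_two (by omega)).2 (Or.inl rfl)

/-- Binomial part: prime `m` with the primes `< m` in `π`, and `k ≤ m`. -/
theorem not_cop_prime {m k : ℕ} (hm : m.Prime) (hm5 : 5 ≤ m) (hπ : ∀ r, r.Prime → r < m → r ∈ π)
    (hk : 1 ≤ k) (hkm : k ≤ m) : ¬ CopPi π ((m + k).choose k) := by
  intro hC
  haveI := Fact.mk hm
  have h2 : 2 ∈ π := hπ 2 Nat.prime_two (by omega)
  rcases hkm.eq_or_lt with rfl | hlt
  · exact hC 2 Nat.prime_two h2 (by rw [← two_mul]; exact choose_two_mul_even k (by omega))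
  rcases Nat.lt_or_ge k 2 with h1 | h1
  · obtain rfl : k = 1 := by omega
    rw [Nat.choose_one_right] at hC
    obtain ⟨l, hl⟩ := hm.odd_of_ne_two (by omega)
    exact hC 2 Nat.prime_two h2 ⟨l + 1, by omega⟩
  have := choose_no_small (i := m) h1 hkm fun p hp hpm hd => by
    rcases hpm.eq_or_lt with rfl | hpl
    · have hL := Choose.choose_modEq_choose_mod_mul_choose_div_nat (p := p) (n := p + k) (k := k)
      rw [Nat.add_mod_left, Nat.mod_eq_of_lt hlt, Nat.choose_self, one_mul, Nat.div_eq_of_lt hlt,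
        Nat.choose_zero_right] at hL
      have h0 := (Nat.modEq_zero_iff_dvd.2 hd).symm.trans hL
      rw [Nat.modEq_iff_dvd' (Nat.zero_le _)] at h0
      exact hm.one_lt.ne' (Nat.dvd_one.1 (by simpa using h0))
    · exact hC p hp (hπ p hp hpl) hd
  rw [this.1] at hm
  exact absurd hm (by decide)

theorem not_cop_seven_eight {m k : ℕ} (hm : m = 7 ∨ m = 8) (h2 : 2 ∈ π) (h3 : 3 ∈ π) (hk : 1 ≤ k)
    (hk' : k ≤ 5 ∨ k = 7 ∨ k = 8) (hkm : k ≤ m) : ¬ CopPi π ((m + k).choose k) := by
  intro hC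
  have e2 := hC 2 Nat.prime_two h2
  have e3 := hC 3 Nat.prime_three h3
  rcases hm with rfl | rfl <;> rcases hk' with h | rfl | rfl
  all_goals first
    | omega
    | (interval_cases k <;> revert e2 e3 <;> norm_num [Nat.choose])
    | (revert e2 e3; norm_num [Nat.choose])

/-- The two sides of an intransitive Hall subgroup. -/
theorem pair {m k : ℕ} (hk : 1 ≤ k) (hkm : k ≤ m) (hmix : Mixed π (m + k))
    (hm : Full π m ∨ Num π m) (hk' : Full π k ∨ Num π k) (hC : CopPi π ((m + k).choose k)) :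
    (k = 1 ∧ (m + k).Prime ∧ ∀ r : ℕ, r.Prime → r ≤ m + k → (r ∈ π ↔ r < m + k)) ∨
      (m = 4 ∧ k = 3 ∧ ∀ r : ℕ, r.Prime → r ≤ m + k → (r ∈ π ↔ (r = 2 ∨ r = 3))) := by
  have h5 := hmix.five_le
  rcases hm with hm | hm
  · -- the larger side is full
    obtain ⟨r, hr, hrn, hrπ⟩ := hmix.2
    rcases Nat.lt_or_ge k 2 with h1 | h1
    · obtain rfl : k = 1 := by omega
      have hrn' : r = m + 1 := by
        by_contra hne
        exact hrπ (hm r hr (by omega))
      subst hrn'
      refine Or.inl ⟨rfl, hr, fun s hs hsn => ⟨fun hsπ => lt_of_le_of_ne hsn ?_, fun hlt => hm s hs (by omega)⟩⟩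
      rintro rfl
      exact hrπ hsπ
    · obtain ⟨rfl, rfl⟩ := choose_no_small h1 hkm fun p hp hpm => hC p hp (hm p hp hpm)
      refine Or.inr ⟨rfl, rfl, fun s hs hsn => ⟨fun hsπ => ?_, ?_⟩⟩
      · by_contra hne
        have hd := hC s hs hsπ
        interval_cases s <;> revert hd hne <;> norm_num [Nat.choose] <;> revert hs <;> decide
      · rintro (rfl | rfl)
        · exact hm 2 Nat.prime_two (by norm_num)
        · exact hm 3 Nat.prime_three (by norm_num)
  · exfalso
    rcases hm with ⟨hp, hc⟩ | ⟨hm78, hc⟩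
    · have hm5 : 5 ≤ m := by
        by_contra hlt
        have := hp.two_le
        interval_cases m
        · omega
        · obtain rfl | h : k = 3 ∨ k < 3 := by omega
          · have h2 : (2 : ℕ) ∈ π := (hc 2 Nat.prime_two (by norm_num)).2 (by norm_num)
            exact hC 2 Nat.prime_two h2 (by norm_num [Nat.choose])
          · have h2 : (2 : ℕ) ∈ π := (hc 2 Nat.prime_two (by norm_num)).2 (by norm_num)
            interval_cases k
            · omega
            · exact hC 2 Nat.prime_two h2 (by norm_num [Nat.choose])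
        · exact absurd hp (by decide)
      exact not_cop_prime hp hm5 (fun r hr hlt => (hc r hr hlt.le).2 hlt) hk hkm hC
    · have h2 : (2 : ℕ) ∈ π := (hc 2 Nat.prime_two (by omega)).2 (Or.inl rfl)
      have h3 : (3 : ℕ) ∈ π := (hc 3 Nat.prime_three (by omega)).2 (Or.inr rfl)
      refine not_cop_seven_eight hm78 h2 h3 hk ?_ hkm hC
      rcases hk' with hk' | ⟨hp, -⟩ | ⟨h78, -⟩
      · left
        by_contra h
        have := (hc 5 (by norm_num) (by omega)).1 (hk' 5 (by norm_num) (by omega))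
        omega
      · have : k ≠ 6 := by rintro rfl; exact absurd hp (by decide)
        omega
      · omega

theorem dvd_uniformBell_of_le {a b c : ℕ} (h : b ≤ c) : Nat.uniformBell b a ∣ Nat.uniformBell c a := by
  induction c, h using Nat.le_induction with
  | base => exact dvd_rfl
  | succ c _ ih => rw [Nat.uniformBell_succ_left]; exact ih.mul_left _

/-- The imprimitive case: `b` blocks of size `a`. -/
theorem imprimitive {a b : ℕ} (ha : 3 ≤ a) (hb : 2 ≤ b) (hfull : Full π a ∨ Num π a)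
    (hC : CopPi π (Nat.uniformBell b a)) : Full π a ∧ a = 4 ∧ b = 2 := by
  have hd : ∀ j, 1 ≤ j → j < b → (j * a + a - 1).choose (a - 1) ∣ Nat.uniformBell b a := fun j hj1 hj => by
    have := dvd_uniformBell_of_le (a := a) (show j + 1 ≤ b by omega)
    rw [Nat.uniformBell_succ_left] at this
    exact (dvd_mul_right _ _).trans this
  have hC1 : CopPi π ((2 * a - 1).choose (a - 1)) := fun p hp hpπ h => hC p hp hpπ (h.trans (by
    have := hd 1 le_rfl (by omega)
    rwa [show 1 * a + a - 1 = 2 * a - 1 by omega] at this))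
  rcases hfull with hF | hN
  · have h4 := eq_four_of_half_choose ha fun p hp hpa => hC1 p hp (hF p hp hpa)
    subst h4
    refine ⟨hF, rfl, ?_⟩
    by_contra hb'
    exact hC 3 Nat.prime_three (hF 3 Nat.prime_three (by norm_num))
      ((show 3 ∣ (2 * 4 + 4 - 1).choose (4 - 1) by norm_num [Nat.choose]).trans (hd 2 (by omega) (by omega)))
  · exfalso
    rcases hN with ⟨hp, hc⟩ | ⟨h78, hc⟩
    · haveI := Fact.mk hp
      have h4 := eq_four_of_half_choose ha fun p hp' hpa hdd => by
        rcases hpa.eq_or_lt with rfl | hlt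
        · have hL := Choose.choose_modEq_choose_mod_mul_choose_div_nat (p := p) (n := 2 * p - 1) (k := p - 1)
          have e1 : (2 * p - 1) % p = p - 1 := by
            rw [show 2 * p - 1 = p - 1 + p by omega, Nat.add_mod_right, Nat.mod_eq_of_lt (by omega)]
          have e2 : (p - 1) % p = p - 1 := Nat.mod_eq_of_lt (by omega)
          have e3 : (p - 1) / p = 0 := Nat.div_eq_of_lt (by omega)
          rw [e1, e2, e3, Nat.choose_self, one_mul, Nat.choose_zero_right] at hL
          have h0 := (Nat.modEq_zero_iff_dvd.2 hdd).symm.trans hL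
          rw [Nat.modEq_iff_dvd' (Nat.zero_le _)] at h0
          exact hp'.one_lt.ne' (Nat.dvd_one.1 (by simpa using h0))
        · exact hC1 p hp' ((hc p hp' hpa).2 hlt) hdd
      subst h4
      exact absurd hp (by decide)
    · have h2 : (2 : ℕ) ∈ π := (hc 2 Nat.prime_two (by omega)).2 (Or.inl rfl)
      have h3 : (3 : ℕ) ∈ π := (hc 3 Nat.prime_three (by omega)).2 (Or.inr rfl)
      rcases h78 with rfl | rfl
      · exact hC1 2 Nat.prime_two h2 (by norm_num [Nat.choose])
      · exact hC1 3 Nat.prime_three h3 (by norm_num [Nat.choose])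

end Cfsg.Agent.PermHall
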