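import Cfsg.Agent.Lib.PermHall.Group
import Cfsg.Agent.Lib.PermHall.Numeric
import Cfsg.Agent.S0713
import Mathlib.GroupTheory.SpecificGroups.Alternating.Simple

/-!
# A Hall subgroup of an alternating group is not primitive (mixed case)
-/

set_option autoImplicit false

namespace Cfsg.Agent.PermHall

open Equiv Equiv.Perm

variable {α : Type*} [Fintype α] [DecidableEq α] {π : Set ℕ}

theorem card_mul_relIndex_alt {M : Subgroup (Perm α)} (hM : M ≤ alternatingGroup α) :
    Nat.card M * M.relIndex (alternatingGroup α) = Nat.card (alternatingGroup α) := by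
  rw [← Subgroup.relIndex_bot_left, ← Subgroup.relIndex_bot_left]
  exact Subgroup.relIndex_mul_relIndex ⊥ M _ bot_le hM

/-- A power of two dividing `|A_n|` divides the order of a Hall subgroup with `2 ∈ π`. -/
theorem two_pow_dvd_card {M : Subgroup (Perm α)} (hM : HallA π M) (h2 : 2 ∈ π) (hn : 2 ≤ Fintype.card α)
    {j : ℕ} (hj : 2 ^ (j + 1) ∣ (Fintype.card α).factorial) : 2 ^ j ∣ Nat.card M := by
  rw [← two_mul_card_alt hn, pow_succ', Nat.mul_dvd_mul_iff_left two_pos, ← card_mul_relIndex_alt hM.1] at hj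
  refine ((Nat.Coprime.pow_left j ?_).dvd_of_dvd_mul_right) hj
  exact Nat.prime_two.coprime_iff_not_dvd.2 (hM.2.2 2 Nat.prime_two h2)

theorem eq_two_pow_of_prime_dvd {n : ℕ} (hn : n ≠ 0) (h : ∀ d, d.Prime → d ∣ n → d = 2) : ∃ i, n = 2 ^ i :=
  ⟨_, Nat.eq_prime_pow_of_unique_prime_dvd hn (fun {d} hd hdn => h d hd hdn)⟩

theorem twenty_four_mul_dvd_factorial {n : ℕ} (hn : 6 ≤ n) :
    24 * (n - 1) ∣ (n - 1).factorial := by
  obtain ⟨m, rfl⟩ : ∃ m, n = m + 2 := ⟨n - 2, by omega⟩
  rw [show m + 2 - 1 = m + 1 by omega, Nat.factorial_succ, mul_comm (m + 1)]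
  exact Nat.mul_dvd_mul_right ((show (24 : ℕ) = Nat.factorial 4 from rfl) ▸ Nat.factorial_dvd_factorial (by omega)) _

theorem primitive_false {M : Subgroup (Perm α)} (hM : HallA π M) (hmix : Mixed π (Fintype.card α))
    (hprim : MulAction.IsPreprimitive M α) : False := by
  classical
  set n := Fintype.card α with hn
  have h5 : 5 ≤ n := hmix.five_le
  obtain ⟨r, hr, hrn, hrπ⟩ := hmix.2
  have hAr : r ∣ Nat.card (alternatingGroup α) := by
    have hd : r ∣ 2 * Nat.card (alternatingGroup α) := by
      rw [two_mul_card_alt (by omega)]; exact (Nat.Prime.dvd_factorial hr).2 hrn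
    rcases eq_or_ne r 2 with rfl | hr2
    · have h4 : 2 * 2 ∣ 2 * Nat.card (alternatingGroup α) := by
        rw [two_mul_card_alt (by omega)]
        exact (show 2 * 2 ∣ Nat.factorial 4 by decide).trans (Nat.factorial_dvd_factorial (by omega))
      exact (Nat.mul_dvd_mul_iff_left two_pos).1 h4
    · exact ((Nat.coprime_primes hr Nat.prime_two).2 hr2).dvd_of_dvd_mul_left hd
  have hMdvd : Nat.card M ∣ n.factorial := by
    have := Subgroup.card_subgroup_dvd_card M
    rwa [Nat.card_perm, Nat.card_eq_fintype_card (α := α)] at this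
  -- small odd primes of `π` give the alternating group
  have hbig : ∀ p, p.Prime → p ≠ 2 → p ∈ π → p ≤ n → n ≤ p + 2 := by
    intro p hp hp2 hpπ hpn
    by_contra hlt
    obtain ⟨g, hg, hgc, hgs⟩ := exists_cycle_mem hM hp hp2 hpπ hpn
    have := Cfsg.Agent.S0713.result M hprim hp h5 (by omega) hgc hgs hg
    exact hrπ (hM.2.1 r hr (hAr.trans (Subgroup.card_dvd_of_le this)))
  obtain ⟨p₁, p₂, hp₁, hp₂, hne, hp₁π, hp₂π, hp₁n, hp₂n⟩ := hmix.1
  by_cases hcase : (n - 2).Prime ∧ n - 2 ∈ π ∧ n - 2 ≠ 2
  · obtain ⟨hp, hpπ, hp2⟩ := hcase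
    obtain ⟨g, hg, hgc, hgs⟩ := exists_cycle_mem hM hp hp2 hpπ (by omega)
    have h3 := PrimeCycles.isMultiplyPretransitive_three hprim hg hgc (hgs ▸ hp) (by omega)
    obtain ⟨s, -, hs⟩ := Finset.exists_subset_card_eq (s := (Finset.univ : Finset α)) (n := 3)
      (by rw [Finset.card_univ]; omega)
    have hidx := h3.index_of_fixingSubgroup_mul (s := (s : Set α)) (by rw [Set.ncard_coe_finset, hs])
    rw [Nat.card_eq_fintype_card] at hidx
    have hdvd : n.descFactorial 3 ∣ Nat.card M := by
      have := Subgroup.index_dvd_card (fixingSubgroup M (s : Set α))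
      have e : (fixingSubgroup M (s : Set α)).index = n.descFactorial 3 := by
        refine Nat.eq_of_mul_eq_mul_right (Nat.factorial_pos (n - 3)) ?_
        rw [hidx, mul_comm (n.descFactorial 3), Nat.factorial_mul_descFactorial (by omega)]
      rwa [e] at this
    have hn0 : n ∣ Nat.card M := (Dvd.intro ((n - 1) * (n - 2)) (by
      simp [Nat.descFactorial]; ring)).trans hdvd
    have hn1 : n - 1 ∣ Nat.card M := (Dvd.intro (n * (n - 2)) (by
      simp [Nat.descFactorial]; ring)).trans hdvd
    obtain ⟨l, hl⟩ := hp.odd_of_ne_two hp2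
    have h2π : 2 ∈ π := hM.2.1 2 Nat.prime_two ((Nat.dvd_trans ⟨l + 1, by omega⟩ hn1))
    have hnp : n.Prime := by
      obtain ⟨d, hd, hdn⟩ := Nat.exists_prime_and_dvd (show n ≠ 1 by omega)
      have hd2 : d ≠ 2 := by rintro rfl; omega
      have := hbig d hd hd2 (hM.2.1 d hd (hdn.trans hn0)) (Nat.le_of_dvd (by omega) hdn)
      obtain ⟨c, hc⟩ := hdn
      obtain rfl | hc1 : c = 1 ∨ c ≠ 1 := em _
      · rwa [hc, mul_one]
      · exfalso
        have : c ≠ 0 := by rintro rfl; omega
        have := Nat.mul_le_mul_left d (show 2 ≤ c by omega)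
        omega
    obtain ⟨i, hi⟩ := eq_two_pow_of_prime_dvd (show n - 1 ≠ 0 by omega) fun d hd hdn => by
      by_contra hd2
      have := hbig d hd hd2 (hM.2.1 d hd (hdn.trans hn1)) ((Nat.le_of_dvd (by omega) hdn).trans (Nat.sub_le _ _))
      obtain ⟨c, hc⟩ := hdn
      rcases Nat.lt_or_ge c 2 with hc2 | hc2
      · interval_cases c
        · omega
        · exact hd2 ((Nat.prime_dvd_prime_iff_eq Nat.prime_two hd).1 ⟨l + 1, by omega⟩).symm
      · have := Nat.mul_le_mul_left d hc2
        omega
    have h3n : ¬ 3 ∣ n - 1 := fun h => by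
      rw [hi] at h
      exact absurd (Nat.prime_three.dvd_of_dvd_pow h) (by norm_num)
    have h5' : n = 5 := by
      have h3' : 3 ∣ n ∨ 3 ∣ n - 2 := by
        rcases (show n % 3 = 0 ∨ n % 3 = 1 ∨ n % 3 = 2 by omega) with h | h | h
        · exact Or.inl (Nat.dvd_of_mod_eq_zero h)
        · exact absurd (Nat.dvd_of_mod_eq_zero (show (n - 1) % 3 = 0 by omega)) h3n
        · exact Or.inr (Nat.dvd_of_mod_eq_zero (by omega))
      rcases h3' with h | h
      · have := (Nat.prime_dvd_prime_iff_eq Nat.prime_three hnp).1 h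
        omega
      · have := (Nat.prime_dvd_prime_iff_eq Nat.prime_three hp).1 h
        omega
    refine hrπ ?_
    have hcases : r = 2 ∨ r = 3 ∨ r = 5 := by
      have := hr.two_le
      have : r ≠ 4 := by rintro rfl; exact absurd hr (by decide)
      omega
    rcases hcases with rfl | rfl | rfl
    · exact h2π
    · rwa [h5'] at hpπ
    · exact hM.2.1 5 (by norm_num) (h5' ▸ hn0)
  · -- a single odd prime `q ∈ {n - 1, n}`
    have hodd : ∀ p, p.Prime → p ≠ 2 → p ∈ π → p ≤ n → p = n ∨ p + 1 = n := by
      intro p hp hp2 hpπ hpn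
      have := hbig p hp hp2 hpπ hpn
      by_contra hh
      exact hcase (by rw [show n - 2 = p by omega]; exact ⟨hp, hpπ, hp2⟩)
    have huniq : ∀ p q, p.Prime → q.Prime → p ≠ 2 → q ≠ 2 → p ∈ π → q ∈ π → p ≤ n → q ≤ n → p = q := by
      intro p q hp hq hp2 hq2 hpπ hqπ hpn hqn
      obtain ⟨_, _⟩ := hp.odd_of_ne_two hp2
      obtain ⟨_, _⟩ := hq.odd_of_ne_two hq2
      have := hodd p hp hp2 hpπ hpn
      have := hodd q hq hq2 hqπ hqn
      omega
    obtain ⟨q, hq, hq2, hqπ, hqn, h2π⟩ : ∃ q, q.Prime ∧ q ≠ 2 ∧ q ∈ π ∧ q ≤ n ∧ 2 ∈ π := by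
      rcases eq_or_ne p₁ 2 with rfl | h1
      · exact ⟨p₂, hp₂, hne.symm, hp₂π, hp₂n, hp₁π⟩
      · rcases eq_or_ne p₂ 2 with rfl | h2
        · exact ⟨p₁, hp₁, h1, hp₁π, hp₁n, hp₂π⟩
        · exact absurd (huniq p₁ p₂ hp₁ hp₂ h1 h2 hp₁π hp₂π hp₁n hp₂n) hne
    have hqn' := hodd q hq hq2 hqπ hqn
    have hqM : q ∣ Nat.card M := by
      obtain ⟨g, hg, hgc, hgs⟩ := exists_cycle_mem hM hq hq2 hqπ hqn
      rw [← hgs, ← hgc.orderOf, ← Subgroup.orderOf_mk g hg]
      exact orderOf_dvd_natCard _
    have hq1 : ¬ q * q ∣ n.factorial := by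
      intro h
      rcases hqn' with rfl | h1
      · obtain ⟨m, hm⟩ : ∃ m, n = m + 1 := ⟨n - 1, by omega⟩
        rw [hm, Nat.factorial_succ, Nat.mul_dvd_mul_iff_left (by omega), ← hm] at h
        have := (Nat.Prime.dvd_factorial hq).1 h
        omega
      · rw [← h1, Nat.factorial_succ] at h
        have hc : Nat.Coprime (q * q) (q + 1) := by
          refine Nat.Coprime.mul_left ?_ ?_ <;> simp
        have h' := hc.dvd_of_dvd_mul_left h
        obtain ⟨m, rfl⟩ : ∃ m, q = m + 1 := ⟨q - 1, by have := hq.two_le; omega⟩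
        rw [Nat.factorial_succ, Nat.mul_dvd_mul_iff_left (by omega)] at h'
        have := (Nat.Prime.dvd_factorial hq).1 h'
        omega
    obtain ⟨c, hc⟩ := hqM
    obtain ⟨e, he⟩ := eq_two_pow_of_prime_dvd (show c ≠ 0 by
        rintro rfl; rw [mul_zero] at hc; exact (Nat.card_pos (α := M)).ne' hc) fun d hd hdc => by
      by_contra hd2
      have hdM : d ∣ Nat.card M := hc ▸ hdc.mul_left q
      have := huniq d q hd hq hd2 hq2 (hM.2.1 d hd hdM) hqπ ((Nat.Prime.dvd_factorial hd).1 (hdM.trans hMdvd)) hqn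
      subst this
      exact hq1 ((hc ▸ Nat.mul_dvd_mul_left d hdc).trans hMdvd)
    subst he
    have hcard : Nat.card M = 2 ^ e * q := by rw [hc, mul_comm]
    have hpow : ∀ j, 2 ^ (j + 1) ∣ n.factorial → j ≤ e := by
      intro j hj
      have h := two_pow_dvd_card hM h2π (by omega) hj
      rw [hcard] at h
      have h' := ((Nat.coprime_primes Nat.prime_two hq).2 (Ne.symm hq2)).pow_left j |>.dvd_of_dvd_mul_right h
      exact (Nat.pow_dvd_pow_iff_le_right (by norm_num)).1 h'
    rcases hqn' with rfl | h1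
    · -- `n = q`
      have hdvd := prime_degree hq hq2 rfl hcard
      by_cases h6 : 6 ≤ n
      · have := hpow (e + 2) (by
          rw [show e + 2 + 1 = 3 + e by omega, pow_add]
          exact ((Nat.mul_dvd_mul (by norm_num) hdvd).trans (twenty_four_mul_dvd_factorial h6)).trans
            (Nat.factorial_dvd_factorial (Nat.sub_le _ _)))
        omega
      · have hn5 : n = 5 := by omega
        have h2 := hpow 2 (by rw [hn5]; decide)
        have hA : Nat.card (alternatingGroup α) = 60 := by
          have := two_mul_card_alt (α := α) (by omega)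
          rw [← hn, hn5, show Nat.factorial 5 = 120 from rfl] at this
          omega
        have he2 : e = 2 := by
          by_contra hne'
          have h3 : 2 ^ 3 ∣ 60 := hA ▸ ((pow_dvd_pow 2 (show 3 ≤ e by omega)).trans
            (Dvd.intro n hcard.symm)).trans (Subgroup.card_dvd_of_le hM.1)
          norm_num at h3
        rw [he2, hn5] at hcard
        haveI := alternatingGroup.isSimpleGroup (α := α) (by rw [Nat.card_eq_fintype_card, ← hn]; omega)
        set M' := M.subgroupOf (alternatingGroup α)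
        have hi : M'.index = 3 := by
          have := card_mul_relIndex_alt hM.1
          rw [hA, hcard] at this
          change M.relIndex (alternatingGroup α) = 3
          omega
        rcases (Subgroup.normalCore_normal M').eq_bot_or_eq_top with hb | ht
        · rw [Subgroup.normalCore_eq_ker] at hb
          have := Subgroup.card_dvd_of_injective (MulAction.toPermHom _ (_ ⧸ M'))
            ((MonoidHom.ker_eq_bot_iff _).1 hb)
          rw [Nat.card_perm, ← Subgroup.index_eq_card, hi, hA] at this
          exact absurd (Nat.le_of_dvd (by decide) this) (by decide)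
        · have := M'.normalCore_le
          rw [ht, top_le_iff] at this
          rw [this, Subgroup.index_top] at hi
          omega
    · -- `n = q + 1`
      haveI := hprim.toIsPretransitive
      obtain ⟨a⟩ : Nonempty α := Fintype.card_pos_iff.1 (by omega)
      have hS : Nat.card (MulAction.stabilizer M a) * n = 2 ^ e * q := by
        rw [← hcard, hn, ← Nat.card_eq_fintype_card, ← MulAction.index_stabilizer_of_transitive M a,
          Subgroup.card_mul_index]
      obtain ⟨i, hie, hi⟩ : ∃ i, i ≤ e ∧ n = 2 ^ i := by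
        have hcop : Nat.Coprime n q := by rw [← h1]; simp
        exact (Nat.dvd_prime_pow Nat.prime_two).1 (hcop.dvd_of_dvd_mul_right (Dvd.intro_left _ hS))
      have hS' : Nat.card (MulAction.stabilizer M a) = 2 ^ (e - i) * q := by
        refine Nat.eq_of_mul_eq_mul_right (show 0 < n by omega) ?_
        rw [hS, hi, mul_right_comm, ← pow_add, Nat.sub_add_cancel hie]
      let S : Set α := {x | x ≠ a}
      let ψ : MulAction.stabilizer M a →* Perm {x : α // x ≠ a} :=
        { toFun := fun g => ((g : M) : Perm α).subtypePerm fun x => by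
            have hga : ((g : M) : Perm α) a = a := g.2
            constructor
            · intro hx h; exact hx (by rw [h, hga])
            · intro hx h; exact hx (((g : M) : Perm α).injective (h.trans hga.symm))
          map_one' := by ext; rfl
          map_mul' := fun _ _ => by ext; rfl }
      have hψ : Function.Injective ψ := by
        intro g g' h
        refine Subtype.ext (Subtype.ext (Equiv.ext fun x => ?_))
        by_cases hx : x = a
        · subst hx
          exact (g.2 : ((g : M) : Perm α) x = x).trans (g'.2 : ((g' : M) : Perm α) x = x).symm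
        · exact congrArg Subtype.val (Equiv.congr_fun h ⟨x, hx⟩)
      have hcardβ : Fintype.card {x : α // x ≠ a} = q := by
        rw [Fintype.card_subtype_compl, Fintype.card_subtype_eq]
        omega
      have hdvd := prime_degree hq hq2 hcardβ (K := ψ.range) (e := e - i)
        ((Nat.card_congr (MonoidHom.ofInjective hψ).toEquiv).symm.trans hS')
      have hi3 : 3 ≤ i := by
        by_contra hh
        interval_cases i <;> omega
      have hle1 : e - i ≤ 1 := by
        by_contra hh
        have h4 : 2 ^ 2 ∣ q - 1 := (pow_dvd_pow 2 (show 2 ≤ e - i by omega)).trans hdvd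
        have h8 : 2 ^ 3 ∣ n := hi ▸ pow_dvd_pow 2 hi3
        omega
      have := hpow (i + 2) (by
        rw [show i + 2 + 1 = 3 + i by omega, pow_add, ← hi]
        obtain ⟨m, hm⟩ : ∃ m, n = m + 1 := ⟨n - 1, by omega⟩
        rw [hm, Nat.factorial_succ, mul_comm (m + 1) m.factorial]
        exact Nat.mul_dvd_mul_right ((show 2 ^ 3 ∣ Nat.factorial 4 by decide).trans
          (Nat.factorial_dvd_factorial (by omega))) _)
      omega

end Cfsg.Agent.PermHall
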